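import Mathlib
import Cfsg.Agent.Lib.Tech.SylowIn
import Cfsg.Agent.Lib.Core.Basic
import Cfsg.Agent.Lib.Core.Cores
import Cfsg.Agent.Lib.FT.OddOrder
import Cfsg.Agent.Lib.WAb.Frob
import Cfsg.Agent.Lib.Frob.Thompson
import Cfsg.Agent.Lib.SolvStruct.MinNonNilp
import Cfsg.Agent.Lib.Transfer.NormalComplement
import Cfsg.Agent.Lib.ZStar.Main
import Cfsg.Agent.Lib.GW.Basic

/-! Non-solvable minimal non-CA-groups: solvable normal subgroups are central, and the Sylow
2-subgroups of centralizers of non-central 2-elements are abelian. -/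

set_option autoImplicit false

namespace CfsgLib.MinCA

open Subgroup Cfsg CfsgLib.Tech

variable {G : Type*} [Group G]

/-- the centralizer of an element -/
abbrev Cx (x : G) : Subgroup G := centralizer ({x} : Set G)

theorem mem_Cx {x g : G} : g ∈ Cx x ↔ Commute x g :=
  mem_centralizer_singleton_iff.trans ⟨Eq.symm, Eq.symm⟩

/-- a non-central element with non-abelian centralizer -/
def Bad (x : G) : Prop := x ∉ center G ∧ ∃ a b, Commute x a ∧ Commute x b ∧ ¬ Commute a b

/-- non-solvable minimal non-CA-groups -/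
structure MC (G : Type*) [Group G] : Prop where
  ns : ¬ Group.IsSolvable G
  bad : ∃ x : G, Bad x
  ca : ∀ K : Subgroup G, K ≠ ⊤ → ∀ {x a b k : G}, x ∈ K → a ∈ K → b ∈ K → k ∈ K →
    Commute x a → Commute x b → ¬ Commute a b → Commute x k

theorem mem_center_of {x : G} (h : ∀ g, Commute x g) : x ∈ center G :=
  mem_center_iff.2 fun g => (h g).symm

theorem comm_of_center {z : G} (h : z ∈ center G) (g : G) : Commute z g :=
  (mem_center_iff.1 h g).symm

theorem Cx_ne_top {x : G} (h : x ∉ center G) : Cx x ≠ ⊤ :=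
  fun e => h (mem_center_of fun g => mem_Cx.1 (e ▸ mem_top g))

theorem comm_conj {x y : G} (g : G) : Commute (g * x * g⁻¹) (g * y * g⁻¹) ↔ Commute x y := by
  simp only [commute_iff_eq, conj_mul, mul_left_inj, mul_right_inj]

theorem conj_mem_center {x g : G} : g * x * g⁻¹ ∈ center G ↔ x ∈ center G :=
  ⟨fun h => by simpa [mul_assoc] using (inferInstance : (center G).Normal).conj_mem _ h g⁻¹,
    fun h => (inferInstance : (center G).Normal).conj_mem _ h g⟩

theorem Bad.conj {x : G} (h : Bad x) (g : G) : Bad (g * x * g⁻¹) := by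
  obtain ⟨h1, a, b, h2, h3, h4⟩ := h
  exact ⟨fun e => h1 (conj_mem_center.1 e), _, _, (comm_conj g).2 h2, (comm_conj g).2 h3,
    fun e => h4 ((comm_conj g).1 e)⟩

variable [Finite G]

theorem solv_of_NC {T K : Subgroup G} (h : IsSylowIn 2 T K)
    (hc : ∀ n ∈ K, n ∈ normalizer (T : Set G) → ∀ t ∈ T, Commute n t) : Group.IsSolvable K := by
  refine WAb.solvable_of_npc (Transfer.burnside_normal_complement h.toSylow fun n hn => ?_)
  refine mem_centralizer_iff.2 fun t ht => Subtype.ext (hc n n.2 (mem_normalizer_of_forall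
    fun x hx => ?_) t (h.mem_toSylow.1 ht)).symm
  exact h.mem_toSylow.1 (conj_mem_of_mem_normalizer hn (x := ⟨x, h.le hx⟩) (h.mem_toSylow.2 hx))

theorem solv_of_normal_sylow {T K : Subgroup G} (h : IsSylowIn 2 T K)
    (hn : K ≤ normalizer (T : Set G)) : Group.IsSolvable K := by
  have : (T.subgroupOf K).Normal := (normal_subgroupOf_iff_le_normalizer h.le).2 hn
  have : Group.IsSolvable (K ⧸ T.subgroupOf K) :=
    FT.odd_order_solvable (Nat.not_even_iff_odd.1 fun e => h.not_dvd e.two_dvd)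
  have : Group.IsNilpotent (T.subgroupOf K) := (h.pgroup.comap_subtype (K := K)).isNilpotent
  exact Group.isSolvable_of_ker_le_range (T.subgroupOf K).subtype
    (QuotientGroup.mk' (T.subgroupOf K)) (by simp)

omit [Finite G] in
theorem solv_of_top (h : Group.IsSolvable (⊤ : Subgroup G)) : Group.IsSolvable G :=
  Group.isSolvable_of_surjective (f := (⊤ : Subgroup G).subtype) fun g => ⟨⟨g, trivial⟩, rfl⟩

theorem exists_solv_pair {M : Subgroup G} {a b : G} (ha : a ∈ M) (hb : b ∈ M)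
    (h : ¬ Commute a b) :
    ∃ B ≤ M, Group.IsSolvable B ∧ ∃ a ∈ B, ∃ b ∈ B, ¬ Commute a b := by
  obtain ⟨B, ⟨h1, a, ha, b, hb, h2⟩, h3⟩ := exists_minimal_of_wellFoundedLT
    (fun B : Subgroup G => B ≤ M ∧ ∃ a ∈ B, ∃ b ∈ B, ¬ Commute a b) ⟨M, le_rfl, a, ha, b, hb, h⟩
  refine ⟨B, h1, ?_, a, ha, b, hb, h2⟩
  rcases SolvStruct.minNonAb_structure (G := B) (fun e => h2 (congrArg Subtype.val
      (mul_comm' (⟨a, ha⟩ : B) ⟨b, hb⟩))) (fun H hH => ⟨⟨fun x y => by
        by_contra e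
        refine hH (eq_top_iff.2 fun g _ => ?_)
        obtain ⟨_, h4, h5⟩ := h3 (y := H.map B.subtype) ⟨(map_subtype_le H).trans h1, _,
          mem_map_of_mem _ x.2, _, mem_map_of_mem _ y.2, fun e' => e (Subtype.ext (Subtype.ext e'))⟩
          (map_subtype_le H) g.2
        exact (Subtype.ext h5 : _ = g) ▸ h4⟩⟩) with ⟨p, hp, h4⟩ | ⟨p, q, hp, hq, -, P, Q, -, h4, -, h5⟩
  · have := Fact.mk hp
    have := h4.isNilpotent
    infer_instance
  · have := Fact.mk hp
    have := Fact.mk hq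
    have := P.isPGroup'.isNilpotent
    have := Q.isPGroup'.isNilpotent
    have := Core.isSolvable_sup_of_normal (P : Subgroup B) (Q : Subgroup B)
    exact solv_of_top (h5 ▸ this)

namespace MC

variable (h : MC G)
include h

omit [Finite G] in
theorem ne_top {K : Subgroup G} (hK : Group.IsSolvable K) : K ≠ ⊤ := 
  fun e => h.ns (solv_of_top (e ▸ hK))

theorem cent_le {L : Subgroup G} [hn : L.Normal] (hL : ¬ Group.IsSolvable L) {c : G}
    (hc : ∀ l ∈ L, Commute c l) : c ∈ center G := by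
  obtain ⟨T, hT⟩ := exists_isSylowIn 2 L
  obtain ⟨n, h1, h2, t, h3, h4⟩ : ∃ n ∈ L, n ∈ normalizer (T : Set G) ∧ ∃ t ∈ T, ¬ Commute n t := by
    by_contra e
    push Not at e
    exact hL (solv_of_NC hT e)
  have h5 : normalizer (T : Set G) ≠ ⊤ := fun e => hL (solv_of_normal_sylow hT (e ▸ le_top))
  refine mem_center_of fun g => ?_
  obtain ⟨l, hl, h6⟩ := hT.frattini (g := g) (by rw [normalizer_eq_top]; trivial)
  have := h.ca _ h5 (mem_normalizer_of_forall fun x hx => by
    rwa [(hc x (hT.le hx)).eq, mul_inv_cancel_right]) h2 (le_normalizer h3) h6 (hc n h1)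
    (hc t (hT.le h3)) h4
  simpa using (hc l hl).inv_right.mul_right this

omit [Finite G] in
theorem le_Cx {x : G} (hx : Bad x) {K : Subgroup G} (hK : K ≠ ⊤) (h1 : Cx x ≤ K) : K ≤ Cx x := by
  obtain ⟨-, a, b, h2, h3, h4⟩ := hx
  exact fun k hk => mem_Cx.2 (h.ca K hK (h1 (mem_Cx.2 (Commute.refl x))) (h1 (mem_Cx.2 h2))
    (h1 (mem_Cx.2 h3)) hk h2 h3 h4)

theorem comm_of_norm {x : G} (hx : Bad x) {g : G} (hg : g ∈ normalizer (Cx x : Set G)) :
    Commute x g := by
  refine mem_Cx.1 (h.le_Cx hx (K := zpowers g ⊔ Cx x) (fun e => hx.1 ?_) le_sup_right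
    (mem_sup_left (mem_zpowers g)))
  have : (Cx x).Normal := normalizer_eq_top_iff.1 (eq_top_iff.2 (e ▸ sup_le (zpowers_le.2 hg)
    le_normalizer))
  refine h.cent_le (L := Cx x) (fun hs => h.ne_top ?_ e) fun l hl => mem_Cx.1 hl
  have := Group.isSolvable_of_comm (G := zpowers g) mul_comm'
  exact Core.isSolvable_sup_of_normal _ _

theorem le_Cx_of_solv {x : G} (hx : Bad x) (N : Subgroup G) [N.Normal] [Group.IsSolvable N] :
    N ≤ Cx x := by
  obtain ⟨-, a, b, h2, h3, h4⟩ := hx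
  obtain ⟨B, h5, h6, a, ha, b, hb, h7⟩ := exists_solv_pair (mem_Cx.2 h2) (mem_Cx.2 h3) h4
  have := Group.isSolvable_of_comm (G := zpowers x) mul_comm'
  have : Group.IsSolvable (B ⊔ zpowers x : Subgroup G) := Core.isSolvable_sup_of_le_normalizer
    fun g hg => mem_normalizer_of_forall fun y hy => by
      obtain ⟨i, rfl⟩ := hy
      rw [← ((mem_Cx.1 (h5 hg)).zpow_left i).eq, mul_inv_cancel_right]
      exact ⟨i, rfl⟩
  exact fun n hn => mem_Cx.2 (h.ca _ (h.ne_top (Core.isSolvable_sup_of_normal (B ⊔ zpowers x) N))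
    (mem_sup_left (mem_sup_right (mem_zpowers x))) (mem_sup_left (mem_sup_left ha))
    (mem_sup_left (mem_sup_left hb)) (mem_sup_right hn) (mem_Cx.1 (h5 ha)) (mem_Cx.1 (h5 hb)) h7)

theorem le_center (N : Subgroup G) [N.Normal] [Group.IsSolvable N] : N ≤ center G := by
  have hX : (closure {x : G | Bad x}).Normal := ⟨fun n hn g => by
    induction hn using closure_induction with
    | mem x hx => exact subset_closure (Bad.conj hx g)
    | one => simp
    | mul x y _ _ hx hy => rw [← conj_mul]; exact mul_mem hx hy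
    | inv x _ hx => rw [← conj_inv]; exact inv_mem hx⟩
  have key : ∀ (N : Subgroup G) [N.Normal] [Group.IsSolvable N], ∀ n ∈ N,
      ∀ l ∈ closure {x : G | Bad x}, Commute n l := fun N _ _ n hn l hl =>
    mem_Cx.1 ((closure_le (Cx n)).2 (fun x hx => mem_Cx.2
      (mem_Cx.1 (h.le_Cx_of_solv hx N hn)).symm) hl)
  by_cases hs : Group.IsSolvable (closure {x : G | Bad x})
  swap
  · exact fun n hn => h.cent_le hs (key N n hn)
  exfalso
  have hc := key (closure {x : G | Bad x})
  set X := closure {x : G | Bad x}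
  obtain ⟨x, hx⟩ := h.bad
  have hxX : x ∈ X := subset_closure hx
  set C := centralizer (X : Set G)
  have hCx : C ≤ Cx x := fun c hc => mem_Cx.2 (mem_centralizer_iff.1 hc x hxX)
  have hC : Group.IsSolvable C := by_contra fun e => hx.1 (h.cent_le e fun l hl => mem_Cx.1 (hCx hl))
  have k1 : ∀ m ∈ Cx x, m ∉ C → ∀ K : Subgroup G, K ≠ ⊤ → X ≤ K → m ∈ K → K ≤ Cx x := by
    intro m hm h1 K h2 h3 h4 k hk
    obtain ⟨y, hy, h5⟩ : ∃ y ∈ X, ¬ Commute y m := by
      by_contra e
      push Not at e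
      exact h1 (mem_centralizer_iff.2 e)
    exact mem_Cx.2 (h.ca K h2 (h3 hxX) (h3 hy) h4 hk (hc x hxX y hy) (mem_Cx.1 hm) h5)
  have k2 : ∀ g, QuotientGroup.mk' C g ∈ (Cx x).map (QuotientGroup.mk' C) ↔ g ∈ Cx x := fun g => by
    rw [← mem_comap, comap_map_eq, QuotientGroup.ker_mk', sup_eq_left.2 hCx]
  obtain ⟨m, hm, h1⟩ : ∃ m ∈ Cx x, m ∉ C := by
    by_contra e
    push Not at e
    refine hx.1 (mem_center_of fun g => h.comm_of_norm hx ?_)
    rw [le_antisymm e hCx, normalizer_eq_top]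
    trivial
  obtain ⟨F, -, _, h2, h3, -, _⟩ := Frob.exists_nilpotent_kernel
    (H := (Cx x).map (QuotientGroup.mk' C)) (Frob.isFrobeniusComplement_iff.2 ⟨fun e => h1
      ((QuotientGroup.eq_one_iff m).1 (mem_bot.1 (e ▸ (k2 m).2 hm))), fun e => Cx_ne_top hx.1
      (eq_top_iff.2 fun g _ => (k2 g).1 (e ▸ mem_top _)), by
      rintro g _ ⟨m, hm, rfl⟩ h1 h2
      obtain ⟨g, rfl⟩ := QuotientGroup.mk'_surjective C g
      rw [← map_inv, ← map_mul, ← map_mul, k2] at h2
      have h3 := k1 m hm (fun e => h1 ((QuotientGroup.eq_one_iff m).2 e)) (cj g⁻¹ (Cx x))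
        (fun e => Cx_ne_top hx.1 (cj_injective g⁻¹ (e.trans (cj_top _).symm)))
        (by rw [← cj_eq_of_normal g⁻¹ X]; exact cj_mono _ fun y hy => mem_Cx.2 (hc x hxX y hy))
        (mem_cj.2 (by simpa using h2))
      exact (k2 g).2 (mem_Cx.2 (by
        simpa using (h.comm_of_norm hx (mem_normalizer_of_cj_le h3)).inv_right))⟩)
  have := Group.isSolvable_of_comm (G := zpowers (QuotientGroup.mk' C m)) mul_comm'
  have := Core.isSolvable_sup_of_normal (zpowers (QuotientGroup.mk' C m)) F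
  have : Group.IsSolvable (QuotientGroup.mk' C).ker := by rwa [QuotientGroup.ker_mk']
  have h4 := k1 m hm h1 _ (h.ne_top (Core.isSolvable_comap (QuotientGroup.mk' C)
    (zpowers (QuotientGroup.mk' C m) ⊔ F))) (fun y hy => mem_comap.2 (by
      rw [QuotientGroup.mk'_apply C y, (QuotientGroup.eq_one_iff y).2
        (mem_centralizer_iff.2 fun z hz => hc z hz y hy)]
      exact one_mem _)) (mem_comap.2 (mem_sup_left (mem_zpowers _)))
  refine h3 (h2.disjoint.eq_bot_of_le fun f hf => ?_)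
  obtain ⟨f, rfl⟩ := QuotientGroup.mk'_surjective C f
  exact (k2 f).2 (h4 (mem_comap.2 (mem_sup_right hf)))

theorem norm_ne_top {U : Subgroup G} (hU : Group.IsSolvable U) {u : G} (hu : u ∈ U)
    (h1 : u ∉ center G) : normalizer (U : Set G) ≠ ⊤ := fun e =>
  have := normalizer_eq_top_iff.1 e
  h1 (h.le_center U hu)

end MC

end CfsgLib.MinCA
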