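import Mathlib
import Cfsg.Agent.Lib.MinCA.Basic
import Cfsg.Agent.Lib.Abel2.SolvC
import Cfsg.Agent.Lib.SylInt.Quat
import Cfsg.Agent.Lib.GW.KPSLa
import Cfsg.Agent.Lib.Dickson.MinSimple

/-! Non-solvable minimal non-CA-groups: the Sylow 2-subgroups of the central quotient are abelian
or dihedral. -/

set_option autoImplicit false

namespace CfsgLib.MinCA

open Subgroup Cfsg CfsgLib.Tech CfsgLib.DihSyl
open scoped commutatorElement

variable {G : Type*} [Group G]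

/-- the projection onto the central quotient -/
abbrev pr (G : Type*) [Group G] : G →* G ⧸ center G := QuotientGroup.mk' (center G)

theorem pr_eq_one {x : G} : pr G x = 1 ↔ x ∈ center G := QuotientGroup.eq_one_iff x

theorem pr_surj : Function.Surjective (pr G) := QuotientGroup.mk'_surjective _

theorem comm_pr {a b : G} : Commute (pr G a) (pr G b) ↔ ⁅a, b⁆ ∈ center G := by
  rw [← pr_eq_one, map_commutatorElement, commutatorElement_eq_one_iff_commute]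

theorem cm_mul {l t : G} (h : Commute (pr G l) (pr G t)) (k : G) :
    ⁅k * l, t⁆ = ⁅l, t⁆ * ⁅k, t⁆ := by
  have := (comm_of_center (comm_pr.1 h) k).eq
  calc _ = k * ⁅l, t⁆ * (t * k⁻¹ * t⁻¹) := by group
    _ = _ := by rw [← this]; group

theorem cm_pow {a b : G} (h : Commute (pr G a) (pr G b)) {m : ℕ} (hm : a ^ m ∈ center G) :
    ⁅a, b⁆ ^ m = 1 := by
  have : ∀ m : ℕ, ⁅a ^ m, b⁆ = ⁅a, b⁆ ^ m := fun m => by
    induction m with
    | zero => simp
    | succ m ih => rw [pow_succ, cm_mul h, ih, pow_succ']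
  rw [← this, commutatorElement_eq_one_iff_commute]
  exact comm_of_center hm b

theorem cm_pow' {a b : G} (h : Commute (pr G a) (pr G b)) {m : ℕ} (hm : b ^ m ∈ center G) :
    ⁅a, b⁆ ^ m = 1 := by
  rw [← commutatorElement_inv, inv_pow, cm_pow h.symm hm, inv_one]

theorem comm_of_coprime {a b : G} (h : Commute (pr G a) (pr G b)) {m n : ℕ} (hm : a ^ m ∈ center G)
    (hn : b ^ n ∈ center G) (hc : m.Coprime n) : Commute a b :=
  commutatorElement_eq_one_iff_commute.1 (orderOf_eq_one_iff.1 (Nat.eq_one_of_dvd_coprimes hc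
    (orderOf_dvd_of_pow_eq_one (cm_pow h hm)) (orderOf_dvd_of_pow_eq_one (cm_pow' h hn))))

theorem comm_of_pr_mem {a b c : G} (h : pr G a = pr G b) (hc : Commute b c) : Commute a c := by
  have : a * b⁻¹ ∈ center G := pr_eq_one.1 (by rw [map_mul, h, map_inv, mul_inv_cancel])
  simpa using (comm_of_center this c).mul_left hc

/-- the centralizer modulo the centre -/
abbrev Kt (t : G) : Subgroup G := (Cx (pr G t)).comap (pr G)

theorem mem_Kt {t k : G} : k ∈ Kt t ↔ Commute (pr G k) (pr G t) :=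
  mem_Cx.trans ⟨Commute.symm, Commute.symm⟩

theorem cm_conj {k u t : G} (hk : k ∈ Kt t) (hu : u ∈ Kt t) : ⁅k * u * k⁻¹, t⁆ = ⁅u, t⁆ := by
  have h1 := cm_mul (mem_Kt.1 (inv_mem hk)) k
  rw [mul_inv_cancel, commutatorElement_one_left] at h1
  rw [cm_mul (mem_Kt.1 (inv_mem hk)), cm_mul (mem_Kt.1 hu),
    (comm_of_center (comm_pr.1 (mem_Kt.1 hu)) _).eq, ← mul_assoc, ← h1, one_mul]

variable [Finite G]

theorem exists_cm {T : Subgroup G} (hT : IsSylowIn 2 T ⊤) {t : G} (h2 : t ^ 2 ∈ center G)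
    (h : T ≤ Kt t) {k : G} (hk : k ∈ Kt t) : ∃ u ∈ T, ⁅k, t⁆ = ⁅u, t⁆ := by
  obtain ⟨y, hy, z, hz, ⟨j, h3⟩, h4, e⟩ := GW.exists_two_odd k
  replace hy := zpowers_le.2 hk hy
  replace hz := zpowers_le.2 hk hz
  obtain ⟨g, hg, h5⟩ := (hT.of_le h le_top).exists_conj_mem hy (isPGroup_zpowers_of_pow h3)
  refine ⟨_, h5, ?_⟩
  rw [cm_conj hg hy, e, cm_mul (mem_Kt.1 hz), commutatorElement_eq_one_iff_commute.2
    (comm_of_coprime (mem_Kt.1 hz) (pow_orderOf_eq_one z ▸ one_mem _) h2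
      (Nat.coprime_two_right.2 h4)), one_mul]

theorem exists_inv {t : G} (h1 : t ∉ center G) {k : ℕ} (h2 : t ^ 2 ^ k ∈ center G) :
    ∃ s ∈ zpowers t, s ∉ center G ∧ s ^ 2 ∈ center G ∧ ∃ j, s ^ 2 ^ j = 1 := by
  induction k generalizing t with
  | zero => exact absurd (by simpa using h2) h1
  | succ k ih =>
    by_cases h3 : t ^ 2 ∈ center G
    · obtain ⟨y, ⟨i, rfl⟩, z, ⟨l, rfl⟩, h4, h5, e⟩ := GW.exists_two_odd t
      have h6 : ∀ i : ℤ, (t ^ i) ^ 2 ∈ center G := fun i => by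
        rw [← zpow_natCast, ← zpow_mul, mul_comm, zpow_mul, zpow_natCast]
        exact zpow_mem h3 i
      refine ⟨_, ⟨i, rfl⟩, fun h7 => h1 (e ▸ mul_mem h7 ?_), h6 i, h4⟩
      obtain ⟨m, hm⟩ := h5
      have := pow_orderOf_eq_one (t ^ l)
      rw [hm, pow_succ, pow_mul] at this
      change t ^ l ∈ _
      rw [eq_inv_of_mul_eq_one_right this]
      exact inv_mem (pow_mem (h6 l) m)
    · obtain ⟨s, h4, h5⟩ := ih h3 (by rwa [← pow_mul, ← pow_succ'])
      exact ⟨s, zpowers_le.2 (pow_mem (mem_zpowers t) 2) h4, h5⟩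

namespace MC

variable (h : MC G)
include h

theorem solv_bot (N : Subgroup (G ⧸ center G)) [N.Normal] [Group.IsSolvable N] : N = ⊥ := by
  have : Group.IsSolvable (pr G).ker := by
    rw [QuotientGroup.ker_mk']
    exact Group.isSolvable_of_comm mul_comm'
  have := Core.isSolvable_comap (pr G) N
  refine eq_bot_iff.2 fun y hy => ?_
  obtain ⟨g, rfl⟩ := pr_surj y
  exact pr_eq_one.2 (h.le_center (N.comap (pr G)) hy)

omit [Finite G] in
theorem ns_quot : ¬ Group.IsSolvable (G ⧸ center G) := fun _ =>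
  have := Group.isSolvable_of_comm (G := center G) mul_comm'
  h.ns (Group.isSolvable_of_ker_le_range (center G).subtype (pr G) (by simp))

theorem core_bot : pPrimeCore 2 (G ⧸ center G) = ⊥ :=
  have := FT.odd_order_solvable (Core.odd_card_oddCore (G ⧸ center G))
  h.solv_bot _

theorem mem_of_pr {t : G} (ht : pr G t ∈ center (G ⧸ center G)) : t ∈ center G :=
  have := Group.isSolvable_of_comm (G := center (G ⧸ center G)) mul_comm'
  pr_eq_one.1 (mem_bot.1 (h.solv_bot (center _) ▸ ht))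

theorem Kt_ne_top {t : G} (ht : t ∉ center G) : Kt t ≠ ⊤ := fun e =>
  ht (h.mem_of_pr (mem_center_of fun y => by
    obtain ⟨g, rfl⟩ := pr_surj y
    exact (mem_Kt.1 (e ▸ mem_top g)).symm))

theorem comm_of_pr {x : G} (hx : Bad x) {k : G} (hk : k ∈ Kt x) : Commute x k :=
  mem_Cx.1 (h.le_Cx hx (h.Kt_ne_top hx.1) (fun _ hg => mem_Kt.2 ((mem_Cx.1 hg).symm.map _)) hk)

theorem exists_conj {t : G} (h1 : t ∉ center G) (h2 : t ^ 2 ∈ center G) :
    ∃ g, g * t * g⁻¹ ∈ Kt t ∧ pr G (g * t * g⁻¹) ≠ pr G t := by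
  by_contra e
  push Not at e
  refine h1 (h.mem_of_pr (ZStar.zstar_center h.core_bot ⟨orderOf_eq_prime
    (by rw [← map_pow, pr_eq_one.2 h2]) fun e => h1 (pr_eq_one.1 e), fun g hg => ?_⟩))
  obtain ⟨g, rfl⟩ := pr_surj g
  simpa using e g (mem_Kt.2 (by simpa using hg.symm))

theorem two_comm {t : G} (h1 : t ∉ center G) {k : ℕ} (h2 : t ^ 2 ^ k ∈ center G) {S : Subgroup G}
    (hS : IsPGroup 2 S) (hle : S ≤ Cx t) {a b : G} (ha : a ∈ S) (hb : b ∈ S) : Commute a b := by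
  by_contra hab
  obtain ⟨t, ⟨i, rfl⟩, h1, h2, j, h3⟩ := exists_inv h1 h2
  replace hle : S ≤ Cx (t ^ i) := fun g hg => mem_Cx.2 ((mem_Cx.1 (hle hg)).zpow_left i)
  simp only at h1 h2 h3
  generalize t ^ i = t at h1 h2 h3 hle
  have hx : Bad t := ⟨h1, a, b, mem_Cx.1 (hle ha), mem_Cx.1 (hle hb), hab⟩
  obtain ⟨g, h4, h5⟩ := h.exists_conj h1 h2
  have h6 := h.comm_of_pr hx h4
  set s := g * t * g⁻¹ with hs
  obtain ⟨U, hU⟩ := exists_isSylowIn 2 (Cx t ⊓ Cx s)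
  have hD : ∀ a ∈ Cx t ⊓ Cx s, ∀ b ∈ Cx t ⊓ Cx s, Commute a b := fun a ha b hb => by
    by_contra e
    have : Cx t ≤ cj g (Cx t) := fun k hk => by
      rw [cj_centralizer_singleton]
      exact mem_Cx.2 (h.ca _ (Cx_ne_top h1) (mem_Cx.2 h6) ha.1 hb.1 hk (mem_Cx.1 ha.2)
        (mem_Cx.1 hb.2) e)
    have := h.comm_of_norm hx (mem_normalizer_of_cj_le (g := g⁻¹)
      ((cj_mono _ this).trans (cj_inv_cj _ _).le))
    exact h5 (by rw [hs, ← (Commute.inv_right_iff.1 this).eq, mul_inv_cancel_right])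
  have hm : ∀ x ∈ Cx t ⊓ Cx s, x ^ 2 ^ j = 1 → x ∈ U := fun x hx e =>
    hU.le_of_normalizes (isPGroup_zpowers_of_pow e) (zpowers_le.2 hx) (zpowers_le.2
      (mem_normalizer_of_forall fun u hu => by
        rwa [(hD x hx u (hU.le hu)).eq, mul_inv_cancel_right])) (mem_zpowers x)
  have htU := hm t (mem_inf.2 ⟨mem_Cx.2 (Commute.refl t), mem_Cx.2 h6.symm⟩) h3
  have hsU := hm s (mem_inf.2 ⟨mem_Cx.2 h6, mem_Cx.2 (Commute.refl s)⟩)
    (by rw [hs, conj_pow, h3, mul_one, mul_inv_cancel])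
  have grow : ∀ c : G, U ≤ cj c (Cx t) → ∃ R : Subgroup G, IsPGroup 2 R ∧ U < R ∧
      R ≤ cj c (Cx t) ∧ R ≤ normalizer (U : Set G) := fun c hc =>
    exists_lt_pgroup_normalizer hU.pgroup hc fun e => by
      obtain ⟨d, -, hd⟩ := e.exists_cj_le (isPGroup_cj c hS) (cj_mono c hle)
      exact hab ((comm_conj c).1 ((comm_conj d).1 (hD _ (hU.le (hd (conj_mem_cj.2
        (conj_mem_cj.2 ha)))) _ (hU.le (hd (conj_mem_cj.2 (conj_mem_cj.2 hb)))))))
  obtain ⟨R, r1, r2, r3, r4⟩ := grow 1 (by rw [cj_one]; exact hU.le.trans inf_le_left)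
  obtain ⟨Q, q1, q2, q3, q4⟩ := grow g (by
    rw [cj_centralizer_singleton]; exact hU.le.trans inf_le_right)
  rw [cj_one] at r3
  rw [cj_centralizer_singleton] at q3
  obtain ⟨n, h7, h8⟩ : ∃ n ∈ R, ¬ Commute s n := by
    by_contra e
    push Not at e
    exact r2.ne' (hU.eq_of_le r1 r2.le (le_inf r3 fun n hn => mem_Cx.2 (e n hn)))
  have := hU.pgroup.isNilpotent
  exact q2.ne' (hU.eq_of_le q1 q2.le (le_inf (fun k hk => mem_Cx.2 (h.ca _
    (h.norm_ne_top inferInstance htU h1) (le_normalizer htU) (le_normalizer hsU) (r4 h7) (q4 hk)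
    h6 (mem_Cx.1 (r3 h7)) h8)) q3))

theorem solv_Kt {T : Subgroup G} (hT : IsSylowIn 2 T ⊤) {t : G} (ht : t ∈ T) (h1 : t ∉ center G)
    (h2 : t ^ 2 ∈ center G) (hle : T ≤ Kt t) : Group.IsSolvable (Kt t) := by
  by_cases hx : Bad t
  swap
  · refine Dickson.isSolvable_of_commutator_le (A := Cx t) (fun a ha b hb => mem_Cx.2 ?_)
      fun a ha b hb => by_contra fun e => hx ⟨h1, a, b, mem_Cx.1 ha, mem_Cx.1 hb, e⟩
    refine (commutatorElement_eq_one_iff_commute.1 ?_).symm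
    rw [cm_mul (mem_Kt.1 (inv_mem hb)), cm_conj ha hb, ← cm_mul (mem_Kt.1 (inv_mem hb))]
    simp
  have e : Kt t = Cx t := le_antisymm (fun k hk => mem_Cx.2 (h.comm_of_pr hx hk))
    fun _ hg => mem_Kt.2 ((mem_Cx.1 hg).symm.map _)
  rw [e] at hle ⊢
  have hT' := hT.of_le hle le_top
  refine solv_of_NC hT' fun n hn h3 u hu => by_contra fun h4 => ?_
  obtain ⟨g, h5, h6⟩ := h.exists_conj h1 h2
  obtain ⟨m, hm, h7⟩ := hT'.exists_conj_mem (e ▸ h5) (by
    rw [← cj_zpowers]; exact isPGroup_cj g (isPGroup_zpowers_of_mem hT.pgroup ht))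
  obtain ⟨k, hk, h8⟩ := hT'.exists_cj_le (isPGroup_cj (m * g)⁻¹ hT.pgroup) (cj_le_iff.2
    fun v hv => mem_Cx.2 ((comm_conj (m * g)).1 (by
      have := h.two_comm h1 (k := 1) h2 hT.pgroup hle h7 hv
      simpa [mul_assoc] using this)))
  have := hT.pgroup.isNilpotent
  have h9 := h.ca _ (h.norm_ne_top inferInstance ht h1) (le_normalizer ht) h3 (le_normalizer hu)
    (mem_normalizer_of_cj_le (cj_mul _ _ T ▸ h8)) (mem_Cx.1 hn) (mem_Cx.1 (hle hu)) h4
  have : Commute t g := by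
    simpa using ((mem_Cx.1 hm).inv_right.mul_right (h9.inv_right.mul_right (mem_Cx.1 hk)))
  exact h6 (by rw [← this.eq, mul_inv_cancel_right])

theorem ab_case (T : Sylow 2 G) (hab : ∀ a ∈ (T : Subgroup G), ∀ b ∈ (T : Subgroup G),
    Commute (pr G a) (pr G b)) : Abel2.Ab2 (G ⧸ center G) ∧ Abel2.SolvC (G ⧸ center G) := by
  have : IsMulCommutative (T.mapSurjective (pr_surj (G := G)) : Subgroup (G ⧸ center G)) :=
    ⟨⟨by rintro ⟨_, a, ha, rfl⟩ ⟨_, b, hb, rfl⟩; exact Subtype.ext (hab a ha b hb)⟩⟩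
  refine ⟨fun S => SolvStruct.comm_of_isPGroup_of_sylow_comm (T.mapSurjective pr_surj)
    S.isPGroup', fun y hy => ?_⟩
  obtain ⟨g, -, t, ht, e⟩ := (IsSylowIn.of_sylow_top (T.mapSurjective (pr_surj (G := G)))).exists_conj_mem
    (mem_top y) (isPGroup_zpowers_iff.2 ⟨1, hy⟩)
  have h3 : orderOf (pr G t) = 2 := by
    rw [e, SemiconjBy.orderOf_eq g⁻¹ (y := y) (by simp [SemiconjBy, mul_assoc]), hy]
  have := h.solv_Kt (IsSylowIn.of_sylow_top T) ht (fun e => by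
    rw [pr_eq_one.2 e, orderOf_one] at h3; omega) (pr_eq_one.1 (by
      rw [map_pow, ← h3, pow_orderOf_eq_one])) fun a ha => mem_Kt.2 (hab a ha t ht)
  have := Group.isSolvable_of_surjective (MonoidHom.subgroupMap_surjective (pr G) (Kt t))
  rw [map_comap_eq_self_of_surjective pr_surj, e, Cx, ← cj_centralizer_singleton] at this
  exact Dickson.isSolvable_of_equiv ⟨cjEquiv g _⟩ this

theorem dih_case (T : Sylow 2 G) (hab : ¬ ∀ a ∈ (T : Subgroup G), ∀ b ∈ (T : Subgroup G),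
    Commute (pr G a) (pr G b)) : GW.DihSylow (G ⧸ center G) := by
  have hT := IsSylowIn.of_sylow_top T
  have hA : ∀ t ∈ (T : Subgroup G), t ∉ center G → ∀ a ∈ (T : Subgroup G),
      ∀ b ∈ (T : Subgroup G), Commute t a → Commute t b → Commute a b := by
    intro t ht h1 a ha b hb h2 h3
    obtain ⟨k, hk⟩ := isPGroup_iff_mem.1 hT.pgroup t ht
    exact h.two_comm h1 (hk ▸ one_mem _) (hT.pgroup.to_le inf_le_left) inf_le_right
      (mem_inf.2 ⟨ha, mem_Cx.2 h2⟩) (mem_inf.2 ⟨hb, mem_Cx.2 h3⟩)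
  obtain ⟨z, hz, h1, h2, hK⟩ : ∃ z ∈ (T : Subgroup G), z ∉ center G ∧ z ^ 2 ∈ center G ∧
      (T : Subgroup G) ≤ Kt z := by
    obtain ⟨_, ⟨z, hz, rfl⟩, h1, h2⟩ := GW.KP.exists_central (hT.pgroup.map (pr G)) fun e => hab
      fun a ha b _ => by
        have : pr G a = 1 := mem_bot.1 (e ▸ mem_map_of_mem (pr G) ha)
        rw [this]; exact Commute.one_left _
    obtain ⟨k, hk⟩ := isPGroup_iff_mem.1 hT.pgroup z hz
    obtain ⟨_, ⟨i, rfl⟩, h3, h4, -⟩ := exists_inv (fun e => h1 (pr_eq_one.2 e)) (hk ▸ one_mem _)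
    exact ⟨_, zpow_mem hz i, h3, h4, fun a ha => mem_Kt.2 (by
      rw [map_zpow]; exact Commute.zpow_right (h2 _ (mem_map_of_mem _ ha)) i)⟩
  have f1 : ∀ x ∈ (T : Subgroup G), ¬ Commute z x → pr G x * pr G x = 1 := fun x hx e => by
    rw [← map_mul, pr_eq_one]
    by_contra e'
    refine e (hA _ (mul_mem hx hx) e' z hz x hx (commutatorElement_eq_one_iff_commute.1 ?_)
      ((Commute.refl x).mul_left (Commute.refl x)))
    rw [cm_mul (mem_Kt.1 (hK hx)), ← pow_two, cm_pow' (mem_Kt.1 (hK hx)) h2]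
  have f2 : ∀ x ∈ (T : Subgroup G), ¬ Commute z x → ∀ u ∈ (T : Subgroup G), Commute z u →
      pr G x * pr G u * (pr G x)⁻¹ = (pr G u)⁻¹ := fun x hx e u hu e' => by
    have := f1 _ (mul_mem hx hu) fun e'' => e (by simpa using e''.mul_right e'.inv_right)
    rw [map_mul, ← mul_assoc] at this
    rw [inv_eq_of_mul_eq_one_right (f1 x hx e), eq_inv_of_mul_eq_one_left this]
  have f3 : ∀ x ∈ (T : Subgroup G), ¬ Commute z x → ∀ y ∈ (T : Subgroup G), ¬ Commute z y →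
      Commute z (x * y) := fun x hx e y hy e' => by
    by_contra e''
    have h3 : ∀ u ∈ (T : Subgroup G), pr G u * pr G u = 1 := fun u hu => by
      by_cases h4 : Commute z u
      · have h5 := f2 _ (mul_mem hx hy) e'' u hu h4
        rw [map_mul, mul_inv_rev, ← mul_assoc, mul_assoc (pr G x), mul_assoc (pr G x),
          f2 y hy e' u hu h4, ← map_inv, f2 x hx e _ (inv_mem hu) h4.inv_right, map_inv,
          inv_inv] at h5
        exact mul_eq_one_iff_eq_inv.2 h5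
      · exact f1 u hu h4
    refine hab fun a ha b hb => ?_
    have := h3 _ (mul_mem ha hb)
    rw [map_mul] at this
    rw [commute_iff_eq, eq_inv_of_mul_eq_one_left this, mul_inv_rev,
      inv_eq_of_mul_eq_one_right (h3 a ha), inv_eq_of_mul_eq_one_right (h3 b hb)]
  obtain ⟨x, hx, h3⟩ : ∃ x ∈ (T : Subgroup G), ¬ Commute z x := by
    by_contra e
    push Not at e
    exact hab fun a ha b hb => (hA z hz h1 a ha b hb (e a ha) (e b hb)).map _
  have f4 : ∀ k ∈ Kt z, ⁅k, z⁆ = 1 ∨ ⁅k, z⁆ = ⁅x, z⁆ := fun k hk => by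
    obtain ⟨u, hu, e⟩ := exists_cm hT h2 hK hk
    rw [e]
    by_cases h4 : Commute z u
    · exact Or.inl (commutatorElement_eq_one_iff_commute.2 h4.symm)
    · have := f3 _ (inv_mem hx) (fun e => h3 (Commute.inv_right_iff.1 e)) u hu h4
      rw [← mul_inv_cancel_left x u, cm_mul (this.symm.map _),
        commutatorElement_eq_one_iff_commute.2 this.symm, one_mul]
      exact Or.inr rfl
  obtain ⟨g, hs, h4⟩ : ∃ g, g * z * g⁻¹ ∈ (T : Subgroup G) ∧ pr G (g * z * g⁻¹) ≠ pr G z := by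
    obtain ⟨g, h4, h5⟩ := h.exists_conj h1 h2
    obtain ⟨m, hm, h6⟩ := (hT.of_le hK le_top).exists_conj_mem h4 (by
      rw [← cj_zpowers]; exact isPGroup_cj g (isPGroup_zpowers_of_mem hT.pgroup hz))
    refine ⟨m * g, by simpa [mul_assoc] using h6, fun e => h5 ?_⟩
    have := (mem_Kt.1 hm).eq
    simp only [map_mul, map_inv, mul_inv_rev] at e ⊢
    calc _ = (pr G m)⁻¹ * (pr G m * pr G g * pr G z * ((pr G g)⁻¹ * (pr G m)⁻¹)) * pr G m := by group
      _ = _ := by rw [e, mul_assoc, ← this, inv_mul_cancel_left]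
  have f5 : ∀ k, Commute (pr G k) (pr G (g * z * g⁻¹)) → ¬ Commute k (g * z * g⁻¹) →
      ⁅k, g * z * g⁻¹⁆ = ⁅x, z⁆ := fun k hk e => by
    have e' : ⁅g⁻¹ * k * g, z⁆ = ⁅k, g * z * g⁻¹⁆ := by
      have := (comm_of_center (comm_pr.1 hk) g).eq
      calc _ = g⁻¹ * (⁅k, g * z * g⁻¹⁆ * g) := by group
        _ = _ := by rw [this, inv_mul_cancel_left]
    rw [← e']
    refine (f4 _ (mem_Kt.2 (comm_pr.2 (e' ▸ comm_pr.1 hk)))).resolve_left fun e'' => e ?_
    exact commutatorElement_eq_one_iff_commute.1 (e' ▸ e'')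
  have h5 : g * z * g⁻¹ ∉ center G := fun e => h1 (conj_mem_center.1 e)
  have h6 : pr G (g * z * g⁻¹) * pr G (g * z * g⁻¹) = 1 := by
    rw [← map_mul, pr_eq_one, conj_mul, conj_mem_center, ← pow_two]; exact h2
  set s := g * z * g⁻¹
  have f6 : ∀ x ∈ (T : Subgroup G), ¬ Commute z x → ∀ u ∈ (T : Subgroup G), Commute z u →
      pr G u * pr G u = 1 → Commute (pr G x) (pr G u) := fun x hx e u hu e' e'' => by
    rw [commute_iff_eq, ← mul_inv_eq_iff_eq_mul, f2 x hx e u hu e', inv_eq_of_mul_eq_one_right e'']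
  have h7 : ¬ Commute z s := fun e => by
    have := f5 x (f6 x hx h3 s hs e h6) fun e' => h3 (hA s hs h5 z hz x hx e.symm e'.symm)
    refine h3 (hA (z⁻¹ * s) (mul_mem (inv_mem hz) hs) (fun e' => h4 ?_) z hz x hx
      ((Commute.refl z).inv_left.mul_left e.symm) ?_)
    · rw [← pr_eq_one, map_mul, map_inv, inv_mul_eq_one] at e'
      exact e'.symm
    · have h8 := (comm_of_center (comm_pr.1 (mem_Kt.1 (hK hx))) z).eq
      calc _ = z⁻¹ * ⁅x, s⁆⁻¹ * x * s := by group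
        _ = x * (z⁻¹ * s) := by rw [this]; group
  have hU : IsCyclic ((T ⊓ Cx z : Subgroup G).map (pr G)) := by
    by_contra e
    obtain ⟨_, ⟨a, ha, rfl⟩, _, ⟨b, hb, rfl⟩, a2, b2, -, a1, b1, hne⟩ := SylInt.four_of_comm
      ((hT.pgroup.to_le inf_le_left).map _) ⟨⟨by
        rintro ⟨_, a, ha, rfl⟩ ⟨_, b, hb, rfl⟩
        exact Subtype.ext ((hA z hz h1 a ha.1 b hb.1 (mem_Cx.1 ha.2) (mem_Cx.1 hb.2)).map _)⟩⟩ e
    have key : ∀ w ∈ (T ⊓ Cx z : Subgroup G), pr G w * pr G w = 1 → pr G w ≠ 1 →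
        ⁅w, s⁆ = ⁅x, z⁆ := fun w hw w2 w1 =>
      f5 w (f6 s hs h7 w hw.1 (mem_Cx.1 hw.2) w2).symm fun e => h7 (hA w hw.1
        (fun e => w1 (pr_eq_one.2 e)) z hz s hs (mem_Cx.1 hw.2).symm e)
    have h8 := (key a ha a2 a1).trans (key b hb b2 b1).symm
    refine h7 (hA (b⁻¹ * a) (mul_mem (inv_mem hb.1) ha.1) (fun e' => hne ?_) z hz s hs
      ((mem_Cx.1 hb.2).inv_right.mul_right (mem_Cx.1 ha.2)).symm ?_)
    · rw [← pr_eq_one, map_mul, map_inv, inv_mul_eq_one] at e'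
      exact e'.symm
    · calc _ = b⁻¹ * ⁅a, s⁆ * s * a := by group
        _ = s * (b⁻¹ * a) := by rw [h8]; group
  obtain ⟨r, hr⟩ := (Subgroup.isCyclic_iff_exists_zpowers_eq_top _).1 hU
  obtain ⟨u, hu, rfl⟩ : r ∈ (T ⊓ Cx z : Subgroup G).map (pr G) := hr ▸ mem_zpowers r
  refine ⟨T.mapSurjective pr_surj, _, pr G u, pr G x, ?_, rfl, f1 x hx h3,
    f2 x hx h3 u hu.1 (mem_Cx.1 hu.2), fun e => ?_, fun y => ⟨?_, ?_⟩⟩
  · refine (Nat.two_le_iff _).2 ⟨(orderOf_pos _).ne', fun e => h1 ?_⟩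
    rw [orderOf_eq_one_iff.1 e, zpowers_one_eq_bot] at hr
    exact pr_eq_one.1 (mem_bot.1 (hr ▸ mem_map_of_mem _ (mem_inf.2 ⟨hz, mem_Cx.2 (.refl z)⟩)))
  · obtain ⟨v, hv, e⟩ := hr ▸ e
    exact h3 (comm_of_pr_mem e.symm (mem_Cx.1 hv.2).symm).symm
  · rintro ⟨v, hv, rfl⟩
    by_cases e : Commute z v
    · obtain ⟨i, hi⟩ : pr G v ∈ zpowers (pr G u) := hr ▸ mem_map_of_mem _ (mem_inf.2 ⟨hv, mem_Cx.2 e⟩)
      exact ⟨i, Or.inl hi.symm⟩
    · obtain ⟨i, hi⟩ : pr G (v * x⁻¹) ∈ zpowers (pr G u) := hr ▸ mem_map_of_mem _ (mem_inf.2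
        ⟨mul_mem hv (inv_mem hx), mem_Cx.2 (f3 v hv e _ (inv_mem hx)
          fun e => h3 (Commute.inv_right_iff.1 e))⟩)
      exact ⟨i, Or.inr (by simp only at hi; rw [hi, map_mul, map_inv, inv_mul_cancel_right])⟩
  · rintro ⟨i, rfl | rfl⟩
    · exact zpow_mem (mem_map_of_mem _ hu.1) i
    · exact mul_mem (zpow_mem (mem_map_of_mem _ hu.1) i) (mem_map_of_mem _ hx)

end MC

end CfsgLib.MinCA
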