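import Mathlib
import Cfsg.Agent.Lib.MinCA.Two
import Cfsg.Agent.Lib.GW.KPSLc
import Cfsg.Agent.Lib.Dickson.Max
import Cfsg.Agent.Lib.Stein.TypeA
import Cfsg.Agent.Lib.Schur.Cover
import Cfsg.Agent.Lib.SL2.PSL

/-! Non-solvable minimal non-CA-groups whose central quotient has socle `PSL₂(q)` or `A₇`. -/

set_option autoImplicit false

namespace CfsgLib.MinCA

open Subgroup Cfsg CfsgLib.Tech CfsgLib.DihSyl CfsgLib.Dickson CfsgLib.GW.KP SemidirectProduct
  Matrix CfsgLib.SL2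
open scoped commutatorElement MatrixGroups

theorem aut_sq {F : Type*} [Field F] [Fintype F] {p : ℕ} [Fact p.Prime]
    (h : Fintype.card F = p ^ 2) (σ : F ≃+* F) : σ * σ = 1 := by
  have : CharP F p := charP_of_card_eq_prime_pow h
  letI := ZMod.algebra F p
  obtain ⟨i, hi⟩ := FiniteField.exists_forall_apply_eq_pow (ZMod p) p F
    (AlgEquiv.ofRingEquiv (f := σ) fun x => DFunLike.congr_fun (RingHom.ext_zmod
      ((σ : F →+* F).comp (algebraMap (ZMod p) F)) (algebraMap (ZMod p) F)) x)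
  ext x
  replace hi : ∀ x, σ x = x ^ (Nat.card (ZMod p)) ^ i := hi
  rw [RingAut.mul_apply, hi, hi, ← pow_mul, ← mul_pow, Nat.card_zmod, ← pow_two, ← h,
    FiniteField.pow_card_pow]
  rfl

variable {G : Type*} [Group G] {F : Type*} [Field F]

theorem Bad.of_pr {x t : G} (hx : Bad x) (e : pr G t = pr G x) : Bad t := by
  obtain ⟨h1, a, b, h2, h3, h4⟩ := hx
  exact ⟨fun h5 => h1 (pr_eq_one.1 (e ▸ pr_eq_one.2 h5)), a, b, comm_of_pr_mem e h2,
    comm_of_pr_mem e h3, h4⟩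

/-- the central quotient is embedded in `PGL₂` over `PSL₂` -/
structure PE (φ : G →* PGL(2, F)) : Prop where
  ker : ∀ g, φ g = 1 ↔ g ∈ center G
  surj : ∀ g ∈ (pslPGL F).range, ∃ a, φ a = g

theorem PE.ne_top {φ : G →* PGL(2, F)} (h : PE φ) {K : Subgroup PGL(2, F)}
    (hK : ¬ (pslPGL F).range ≤ K) : K.comap φ ≠ ⊤ := fun e => hK fun g hg => by
  obtain ⟨a, rfl⟩ := h.surj g hg
  exact mem_comap.1 (e ▸ mem_top a)

theorem slPGL_uu (b : F) : slPGL F (uu b) = aff 1 b one_ne_zero := slPGL_eq_pm _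

namespace MC

variable [Finite G] (h : MC G)
include h

theorem inr_eq_one {L : Subgroup (G ⧸ center G)} {ρ : G ⧸ center G →* PGam F} (hρ : Emb L ρ)
    [Fintype F] (h4 : 4 < Fintype.card F) (h9 : Fintype.card F ≠ 9) {a : G} {τ : F ≃+* F}
    (ha : ρ (pr G a) = inr τ) : τ = 1 := by
  obtain ⟨c, hc⟩ := exists_sq_ne_one (F := F) h4.le
  have hp : Group.IsPerfect SL(2, F) := ⟨Classical.sl_commutator_eq_top_of_sq_ne_one c.ne_zero hc⟩
  have hk : (pr G).ker ≤ center G := (QuotientGroup.ker_mk' _).le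
  obtain ⟨η, hη⟩ := Schur.exists_lift_of_trivial_mult (Stein.trivial_mult_SL2 h4.ne' h9)
    ((MonoidHom.ofInjective hρ.inj).symm.toMonoidHom.comp ((inl.comp (slPGL F)).codRestrict ρ.range
      fun s => by
        obtain ⟨y, -, e⟩ := hρ.surj (slPGL F s) (range_pslPGL (K := F) ▸ ⟨s, rfl⟩)
        exact ⟨y, e⟩)) (ξ := pr G) ⟨pr_surj, hk⟩
  replace hη : ∀ s, ρ (pr G (η s)) = inl (slPGL F s) := fun s => by
    rw [← MonoidHom.comp_apply (pr G), hη]
    exact MonoidHom.apply_ofInjective_symm hρ.inj _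
  have key : ∀ s, a * η s * a⁻¹ = η (SpecialLinearGroup.map (τ : F →+* F) s) :=
    DFunLike.congr_fun (Schur.lift_unique_of_perfect hk ((MulAut.conj a).toMonoidHom.comp η)
      (η.comp (SpecialLinearGroup.map (τ : F →+* F))) (MonoidHom.ext fun s => hρ.inj (by
        simp only [MonoidHom.comp_apply, MulEquiv.coe_toMonoidHom, MulAut.conj_apply, map_mul,
          map_inv, ha, hη]
        rw [← map_inv, ← inl_aut, pglAut_apply, mk_eq_pm, mk_eq_pm, map_pm]
        rfl)))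
  replace key : ∀ b, a * η (uu b) * a⁻¹ = η (uu (τ b)) := fun b => by
    rw [key]; congr 1; refine ext2 ?_ ?_ ?_ ?_ <;> simp [uu, SpecialLinearGroup.map_apply_coe]
  have inj : ∀ {b d : F}, η (uu b) = η (uu d) → b = d := fun e => by
    have := hη (uu _) ▸ hη (uu _) ▸ congrArg (fun g => ρ (pr G g)) e
    rw [slPGL_uu, slPGL_uu] at this
    exact (aff_inj.1 (inl_injective this)).2
  have hd : ∀ b, η (dg c) * η (uu b) * (η (dg c))⁻¹ = η (uu (c ^ 2 * b)) := fun b => by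
    rw [← map_inv, ← map_mul, ← map_mul, ← dg_inv]
    congr 1; refine ext2 ?_ ?_ ?_ ?_ <;> simp only [mul_ap] <;> simp [uu, dg]
    ring
  have hc' : ∀ b d, Commute (η (uu b)) (η (uu d)) := fun b d => by
    rw [commute_iff_eq, ← map_mul, ← map_mul, ← uu_add, ← uu_add, add_comm]
  by_contra e
  obtain ⟨b, hb⟩ : ∃ b, τ b ≠ b := by
    by_contra e'
    push Not at e'
    exact e (RingEquiv.ext e')
  let U := (η.comp (MonoidHom.mk' (fun b : Multiplicative F => uu b.toAdd) fun _ _ =>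
    uu_add _ _)).range
  have hU : ∀ b, η (uu b) ∈ U := fun b => ⟨Multiplicative.ofAdd b, rfl⟩
  have h1 : η (uu 1) ∉ center G := fun e' => by
    have := hη (uu 1)
    rw [pr_eq_one.2 e', map_one, slPGL_uu, ← map_one inl] at this
    exact one_ne_zero (aff_eq_one_iff.1 (inl_injective this).symm).2
  have := h.ca _ (h.norm_ne_top (U := U) (Group.isSolvable_of_comm (by
      rintro ⟨_, b, rfl⟩ ⟨_, d, rfl⟩; exact Subtype.ext (hc' _ _))) (hU 1) h1)
    (le_normalizer (hU 1)) (a := a) (mem_normalizer_of_forall (by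
      rintro _ ⟨b, rfl⟩; exact key _ ▸ hU _)) (le_normalizer (hU b)) (k := η (dg c))
    (mem_normalizer_of_forall (by rintro _ ⟨b, rfl⟩; exact hd _ ▸ hU _))
    (by rw [commute_iff_eq, eq_comm, ← mul_inv_eq_iff_eq_mul, key, map_one]) (hc' _ _)
    fun e' => hb (inj (by rw [← key, e'.eq, mul_inv_cancel_right]))
  exact hc ((mul_one _).symm.trans (inj (by rw [← hd 1, ← this.eq, mul_inv_cancel_right])))

theorem exists_pe {L : Subgroup (G ⧸ center G)} {ρ : G ⧸ center G →* PGam F} (hρ : Emb L ρ)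
    [Fintype F] (h4 : 4 ≤ Fintype.card F)
    (h2 : ∀ (y : G ⧸ center G) (k : ℕ), y ^ 2 ^ k = 1 → (ρ y).right = 1) :
    (∀ y, (ρ y).right = 1) ∧ ∃ φ : G →* PGL(2, F), PE φ := by
  have key : ∀ y, (ρ y).right = 1 := fun y => by
    obtain ⟨y, -, z, -, ⟨k, hk⟩, ⟨m, hm⟩, rfl⟩ := GW.exists_two_odd y
    have h5 : (ρ z).right * (ρ z).right = 1 := by
      by_cases e : Fintype.card F = 4
      · exact aut_sq (p := 2) e _
      by_cases e' : Fintype.card F = 9
      · have : Fact (Nat.Prime 3) := ⟨Nat.prime_three⟩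
        exact aut_sq (p := 3) e' _
      obtain ⟨a, -, ha⟩ := hρ.surj (ρ z * ρ z).left (by
        rcases Nat.even_or_odd (Nat.card F) with h5 | h5
        · rw [index_eq_one.1 (index_psl_even h5)]; trivial
        · exact (left_mul_mem_iff h5 _ _).2 Iff.rfl)
      obtain ⟨g, hg⟩ := pr_surj (a⁻¹ * (z * z))
      refine h.inr_eq_one hρ (by omega) e' (a := g) ?_
      rw [hg, map_mul, map_inv, ha, inv_mul_eq_iff_eq_mul, map_mul, ← mul_right]
      exact (inl_left_mul_inr_right _).symm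
    have h6 := congrArg (fun y => rightHom (ρ y)) (pow_orderOf_eq_one z)
    simp only [hm, map_pow, map_one, rightHom_eq_right] at h6
    rw [pow_succ, pow_mul, pow_two, h5, one_pow] at h6
    rw [map_mul, mul_right, h2 y k hk, h6]
  refine ⟨key, MonoidHom.mk' (fun g => (ρ (pr G g)).left) fun a b => by
    simp [key], fun g => ?_, fun g hg => ?_⟩
  · rw [← pr_eq_one, hρ.eq_one_iff (eq_inl (key _))]
    rfl
  · obtain ⟨y, -, e⟩ := hρ.surj g hg
    obtain ⟨a, rfl⟩ := pr_surj y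
    exact ⟨a, congrArg SemidirectProduct.left e⟩

theorem sq_of_bad {φ : G →* PGL(2, F)} (hφ : PE φ) [Finite F] (h4 : 4 ≤ Nat.card F) {x : G}
    (hx : Bad x) : x ^ 2 ∈ center G ∧ Odd (Nat.card F) := by
  have hp := CharP.char_is_prime F (ringChar F)
  have := Fact.mk hp
  have h1 : φ x ≠ 1 := fun e => hx.1 ((hφ.ker x).1 e)
  obtain ⟨y, hy⟩ := bar_fix1 (φ x)
  by_cases hu : IsUnip y (φ x)
  · exfalso
    obtain ⟨y, rfl⟩ := mem_range_emb_of_isUnip hu h1
    have h2 := h.le_Cx hx (hφ.ne_top (not_fix_of_pslSub_le (pslSub_top 1).le (emb y)))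
      fun g hg => mem_stab.2 ⟨trivial, (mob_bar (ringChar F)).comm_unip_fix hu h1
        ((mem_Cx.1 hg).map φ).symm⟩
    have h3 : stab (pslPGL F).range (emb y) ≤ unip (emb y) := fun g hg => by
      obtain ⟨a, rfl⟩ := hφ.surj g hg.1
      exact (mob_bar (ringChar F)).comm_unip hu h1
        ((mem_Cx.1 (h2 (mem_stab.2 ⟨trivial, hg.2⟩))).map φ).symm
    have h5 := card_le_of_le h3
    have h6 := card_stab_emb le_rfl y
    rw [card_unip_emb] at h5
    obtain ⟨q, hq⟩ := Nat.exists_eq_add_of_le' h4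
    rw [hq] at h5 h6
    rcases index_cases (F := F) le_rfl with e | e <;> rw [e] at h6 <;>
      simp only [Nat.add_succ_sub_one] at h6 <;> nlinarith
  obtain ⟨-, z, hz, hz'⟩ := exists_fix_of_not_isUnip hy hu
  have h2 := h.le_Cx hx (hφ.ne_top (not_psl_le_pairStab (L := ⊤) (by omega) hz.symm))
    fun g hg => mem_pairStab.2 ⟨trivial, (mob_bar (ringChar F)).comm_fix h1 hz.symm hy hz'
      ((mem_Cx.1 hg).map φ).symm⟩
  obtain ⟨s, hs, h5, h6⟩ := exists_swap (by omega) h1 hz.symm hy hz'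
  obtain ⟨a, rfl⟩ := hφ.surj s hs
  have h7 := swap_conj_eq_inv hz.symm (mem_stab2.2 ⟨trivial, hy, hz'⟩) h5 h6
  rw [← ((mem_Cx.1 (h2 (mem_pairStab.2 ⟨trivial, Or.inr ⟨h5, h6⟩⟩))).map φ).eq,
    mul_inv_cancel_right, eq_inv_iff_mul_eq_one, ← pow_two] at h7
  refine ⟨(hφ.ker _).1 (by rw [map_pow, h7]), odd_card_of_ne_two (ringChar F) fun e => ?_⟩
  have := coprime_orderOf_of_fix_two (ringChar F) hz.symm (isOfFinOrder_of_finite _) hy hz'
  rw [orderOf_eq_prime h7 h1, e] at this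
  exact absurd this (by decide)

theorem exists_bad_mem (T : Sylow 2 G) {x : G} (hx : Bad x) (h2 : x ^ 2 ∈ center G) :
    ∃ t ∈ (T : Subgroup G), Bad t ∧ t ^ 2 ∈ center G := by
  obtain ⟨g, -, t, ht, e⟩ := (IsSylowIn.of_sylow_top (T.mapSurjective
    (pr_surj (G := G)))).exists_conj_mem (mem_top (pr G x))
    (isPGroup_zpowers_of_pow (k := 1) (by rw [← map_pow]; exact pr_eq_one.2 h2))
  obtain ⟨g, rfl⟩ := pr_surj g
  rw [← map_inv, ← map_mul, ← map_mul] at e
  refine ⟨t, ht, (hx.conj g).of_pr e, pr_eq_one.1 ?_⟩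
  rw [map_pow, e, ← map_pow, conj_pow, pr_eq_one, conj_mem_center]
  exact h2

theorem comm_of_ab (T : Sylow 2 G) (hab : ∀ a ∈ (T : Subgroup G), ∀ b ∈ (T : Subgroup G),
    Commute (pr G a) (pr G b)) {x : G} (hx : Bad x) (h2 : x ^ 2 ∈ center G) {a b : G}
    (ha : a ∈ (T : Subgroup G)) (hb : b ∈ (T : Subgroup G)) : Commute a b := by
  obtain ⟨t, ht, h3, h4⟩ := h.exists_bad_mem T hx h2
  exact h.two_comm h3.1 (k := 1) h4 T.isPGroup'
    (fun g hg => mem_Cx.2 (h.comm_of_pr h3 (mem_Kt.2 (hab g hg t ht)))) ha hb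

theorem ab2_of_dih (hY : GW.DihSylow (G ⧸ center G)) {x : G} (hx : Bad x)
    (h2 : x ^ 2 ∈ center G) : Abel2.Ab2 (G ⧸ center G) := by
  obtain ⟨S, n, r, s, hn, hD⟩ := hY
  obtain ⟨T, rfl⟩ := Sylow.mapSurjective_surjective (pr_surj (G := G)) 2 S
  obtain ⟨t, ht, h3, h4⟩ := h.exists_bad_mem T hx h2
  obtain ⟨z, h5, h6, h7⟩ : ∃ z, z ∉ center G ∧ z ^ 2 ∈ center G ∧ (T : Subgroup G) ≤ Cx z := by
    have h5 : pr G t * pr G t = 1 := by rw [← pow_two, ← map_pow]; exact pr_eq_one.2 h4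
    obtain ⟨i, e | e⟩ := (hD.mem (pr G t)).1 (mem_map_of_mem _ ht)
    · exact ⟨t, h3.1, h4, fun g hg => mem_Cx.2 (h.comm_of_pr h3 (mem_Kt.2
        (hD.commute_of_sq ⟨i, e.symm⟩ h5 (mem_map_of_mem _ hg))))⟩
    obtain ⟨k, rfl⟩ := hD.exists_pow_of_isPGroup (Sylow.isPGroup' _)
    obtain ⟨k, rfl⟩ := Nat.exists_eq_succ_of_ne_zero (n := k) (by rintro rfl; omega)
    obtain ⟨h6, h7⟩ := hD.half (m := 2 ^ k) (pow_succ' _ _) (by positivity)
    obtain ⟨r, rfl⟩ := pr_surj r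
    have h8 : Commute (r ^ ((2 ^ k : ℕ) : ℤ)) t := (h.comm_of_pr h3 (mem_Kt.2 (by
      rw [map_zpow]
      exact (hD.commute_of_sq ⟨_, rfl⟩ h6 (mem_map_of_mem _ ht)).symm))).symm
    refine ⟨r ^ ((2 ^ k : ℕ) : ℤ), fun e => h7 (map_zpow (pr G) r _ ▸ pr_eq_one.2 e),
      pr_eq_one.1 (by rw [map_pow, map_zpow, pow_two, h6]), fun g hg => mem_Cx.2 ?_⟩
    obtain ⟨j, e' | e'⟩ := (hD.mem (pr G g)).1 (mem_map_of_mem _ hg)
    · exact (comm_of_pr_mem (b := r ^ j) (by rw [e', map_zpow]) (Commute.zpow_zpow_self _ _ _)).symm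
    · refine (comm_of_pr_mem (b := r ^ (j - i) * t) ?_
        ((Commute.zpow_zpow_self _ _ _).mul_left h8.symm)).symm
      rw [e', map_mul, map_zpow, e, ← mul_assoc, ← _root_.zpow_add, sub_add_cancel]
  exact Abel2.abelian_sylow_of_one (T.mapSurjective pr_surj) ⟨⟨by
    rintro ⟨_, a, ha, rfl⟩ ⟨_, b, hb, rfl⟩
    exact Subtype.ext ((h.two_comm h5 (k := 1) h6 T.isPGroup' h7 ha hb).map _)⟩⟩

open Equiv Pointwise in
omit [Finite G] in
theorem not_A7 (e : G ⧸ center G ≃* alternatingGroup (Fin 7)) : False := by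
  let f := (alternatingGroup (Fin 7)).subtype.comp (e.toMonoidHom.comp (pr G))
  have hf : ∀ σ, Perm.sign σ = 1 → ∃ g, f g = σ := fun σ hσ => by
    obtain ⟨g, hg⟩ := (e.surjective.comp pr_surj) ⟨σ, hσ⟩
    exact ⟨g, congrArg Subtype.val hg⟩
  have hk : ∀ g, f g = 1 → g ∈ center G := fun g hg =>
    pr_eq_one.1 (e.injective ((Subtype.ext hg).trans (map_one e).symm))
  obtain ⟨a, ha⟩ := hf (swap 0 1 * swap 1 2) (by simp)
  obtain ⟨b, hb⟩ := hf (swap 0 1 * swap 3 4 * swap 4 5 * swap 5 6) (by simp)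
  obtain ⟨k, hk'⟩ := hf (swap 3 4 * swap 4 5) (by simp)
  obtain ⟨g, hg⟩ := hf (swap 2 3 * swap 3 4) (by simp)
  have := h.ca ((MulAction.stabilizer _ ({0, 1, 2} : Finset (Fin 7))).comap f) (fun e' => by
      have := mem_comap.1 (e' ▸ mem_top g)
      rw [hg, MulAction.mem_stabilizer_iff] at this
      exact absurd this (by decide))
    (x := b * b) (a := a) (b := b) (k := k)
    (by rw [mem_comap, map_mul, hb, MulAction.mem_stabilizer_iff]; decide)
    (by rw [mem_comap, ha, MulAction.mem_stabilizer_iff]; decide)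
    (by rw [mem_comap, hb, MulAction.mem_stabilizer_iff]; decide)
    (by rw [mem_comap, hk', MulAction.mem_stabilizer_iff]; decide)
    (comm_of_coprime (m := 2) (n := 3) (comm_pr.2 (hk _ (by
        rw [map_commutatorElement, map_mul, ha, hb, commutatorElement_eq_one_iff_mul_comm]; decide)))
      (hk _ (by rw [map_pow, map_mul, hb]; decide)) (hk _ (by rw [map_pow, ha]; decide)) (by decide))
    ((Commute.refl b).mul_left (Commute.refl b)) fun e' => by
      have := (e'.map f).eq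
      rw [ha, hb] at this
      exact absurd this (by decide)
  have := (this.map f).eq
  rw [map_mul, hb, hk'] at this
  exact absurd this (by decide)

end MC

end CfsgLib.MinCA
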