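import Mathlib
import Cfsg.Agent.Lib.MinCA.PSL
import Cfsg.Agent.Lib.GW.Main
import Cfsg.Agent.Lib.GW.Cor1
import Cfsg.Agent.Lib.WCor.C2
import Cfsg.Agent.Lib.Transfer.Focal

/-! The non-solvable minimal non-CA-groups. -/

set_option autoImplicit false

namespace CfsgLib.MinCA

open Subgroup Cfsg CfsgLib.Tech CfsgLib.DihSyl CfsgLib.Dickson CfsgLib.GW.KP SemidirectProduct
open scoped commutatorElement MatrixGroups

universe u

theorem MC.ab {G : Type u} [Group G] [Finite G] (h : MC G) (T : Sylow 2 G) :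
    ∀ a ∈ (T : Subgroup G), ∀ b ∈ (T : Subgroup G), Commute (pr G a) (pr G b) := by
  by_contra hab
  have hY := h.dih_case T hab
  obtain ⟨L, hL⟩ := GW.Cor.exists_socle (GW.ih_all GW.Cor.ft) hY h.core_bot h.ns_quot
  have := hL.normal
  rcases hL.known with ⟨-, ⟨e⟩⟩ | ⟨⟨F, _, _, hodd, h3, ⟨e⟩⟩, -⟩
  · exact h.not_A7 e
  obtain ⟨ρ, hρ⟩ := exists_emb L hL.cent e
  have hsq : ∀ u, u * u = 1 → u ∈ (rightHom.comp ρ).ker := fun u hu => hρ.right_eq_one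
    (fun _ _ _ ha hb hab hc hcc hca hcb => hY.eq_of_comm ha hb hab hc hcc hca hcb)
    (SL2.two_ne_zero_of_odd hodd) hu
  obtain ⟨S, n, r, s, -, hD⟩ := id hY
  have hr : r ∈ (rightHom.comp ρ).ker := by
    simpa only [mul_assoc, hD.ss, mul_one, zpow_one] using
      mul_mem (hsq _ (hD.rpows_sq 1)) (hsq s hD.ss)
  obtain ⟨-, φ, hφ⟩ := h.exists_pe hρ h3 fun y k hy => by
    obtain ⟨g, -, hg⟩ := (IsSylowIn.of_sylow_top S).exists_conj_mem (mem_top y)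
      (isPGroup_zpowers_of_pow hy)
    have h5 : g * y * g⁻¹ ∈ (rightHom.comp ρ).ker := by
      obtain ⟨i, e | e⟩ := (hD.mem _).1 hg
      exacts [e ▸ zpow_mem hr i, e ▸ hsq _ (hD.rpows_sq i)]
    have := (MonoidHom.normal_ker (rightHom.comp ρ)).conj_mem _ h5 g⁻¹
    rwa [inv_inv, ← mul_assoc, ← mul_assoc, inv_mul_cancel, one_mul, inv_mul_cancel_right] at this
  obtain ⟨x, hx⟩ := h.bad
  have := h.ab2_of_dih hY hx (h.sq_of_bad hφ (by rwa [Nat.card_eq_fintype_card]) hx).1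
    (T.mapSurjective pr_surj)
  exact hab fun a ha b hb => congrArg Subtype.val (mul_comm' (⟨pr G a, mem_map_of_mem _ ha⟩ :
    (T.mapSurjective (pr_surj (G := G)) : Subgroup (G ⧸ center G))) ⟨pr G b, mem_map_of_mem _ hb⟩)

theorem MC.perfect {G : Type*} [Group G] (h : MC G) (hp : commutator (G ⧸ center G) = ⊤) :
    commutator G = ⊤ := by
  by_contra e
  have key : ∀ g, ∃ c ∈ commutator G, pr G c = pr G g := fun g => by
    have : pr G g ∈ (commutator G).map (pr G) := by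
      rw [commutator_def, map_commutator, map_top_of_surjective _ pr_surj, ← commutator_def, hp]
      trivial
    exact this
  obtain ⟨x, h1, a, b, h2, h3, h4⟩ := h.bad
  refine h1 (mem_center_of fun k => ?_)
  obtain ⟨x, hx, e1⟩ := key x
  obtain ⟨a, ha, e2⟩ := key a
  obtain ⟨b, hb, e3⟩ := key b
  obtain ⟨k, hk, e4⟩ := key k
  have c2 : ∀ {a b c d : G}, pr G a = pr G b → pr G c = pr G d → Commute b d → Commute a c :=
    fun e e' h => comm_of_pr_mem e (comm_of_pr_mem e' h.symm).symm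
  exact c2 e1.symm e4.symm (h.ca _ e hx ha hb hk (c2 e1 e2 h2) (c2 e1 e3 h3)
    fun e => h4 (c2 e2.symm e3.symm e))

theorem MC.psl {G : Type u} [Group G] [Finite G] (h : MC G) :
    ∃ (F : Type) (_ : Field F) (_ : Fintype F), Nonempty (G ≃* PSL(2, F)) ∧ 5 ≤ Nat.card F ∧
      (Nat.card F % 8 = 3 ∨ Nat.card F % 8 = 5) := by
  obtain ⟨T⟩ : Nonempty (Sylow 2 G) := inferInstance
  obtain ⟨x, hx⟩ := h.bad
  obtain ⟨hab, hC⟩ := h.ab_case T (h.ab T)
  obtain ⟨K, _, hs, hn, hc⟩ := hC.exists_simple hab h.core_bot h.ns_quot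
  have hK : Abel2.Ab2 K := hab.of_injective K.subtype K.subtype_injective
  obtain ⟨F, _, _, h4, h8, ⟨e⟩⟩ : ∃ (F : Type) (_ : Field F) (_ : Fintype F), 4 ≤ Fintype.card F ∧
      (Odd (Fintype.card F) → Fintype.card F % 8 = 3 ∨ Fintype.card F % 8 = 5) ∧
      Nonempty (K ≃* PSL(2, F)) := by
    rcases (hC.subgroup K).psl hs hn hK with ⟨F, _, _, _, h4, e⟩ | h1
    · exact ⟨F, _, _, h4, fun ho => absurd (CharP.cast_eq_zero F 2) (SL2.two_ne_zero_of_odd ho), e⟩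
    · obtain ⟨F, _, _, h5, h8, e⟩ := Gold.Cor.pslOdd_mod hK h1
      exact ⟨F, _, _, by omega, fun _ => h8, e⟩
  obtain ⟨ρ, hρ⟩ := exists_emb K hc e
  have h2 : ∀ (y : G ⧸ center G) (k : ℕ), y ^ 2 ^ k = 1 → y ∈ K := fun y k hy => by
    obtain ⟨R, hR⟩ := (isPGroup_zpowers_of_pow hy).exists_le_sylow
    exact Abel2.sylow_le_of_centralizer_eq_bot K hc (Gold.pPrimeCore_eq_bot_of_simple hs hn) R (hab R)
      (hR (mem_zpowers y))
  obtain ⟨h3, φ, hφ⟩ := h.exists_pe hρ h4 fun y k hy => by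
    obtain ⟨g, -, hg⟩ := hρ.mem y (h2 y k hy)
    rw [hg, right_inl]
  obtain ⟨h5, ho⟩ := h.sq_of_bad hφ (by rwa [Nat.card_eq_fintype_card]) hx
  rw [Nat.card_eq_fintype_card] at ho
  have h6 : K = ⊤ := eq_top_iff.2 fun y _ => by
    obtain ⟨y, -, z, -, ⟨k, hk⟩, hz, rfl⟩ := GW.exists_two_odd y
    exact mul_mem (h2 y k hk) (hρ.mem_of_odd (h3 z) hz)
  subst h6
  have h7 : 4 < Fintype.card F := h4.lt_of_ne fun e => absurd (e ▸ ho) (by decide)
  have hp := h.perfect (Gold.BaseAux.commutator_eq_top (topEquiv.symm.isSimpleGroup) fun e =>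
    h.ns_quot (Group.isSolvable_of_comm mul_comm'))
  have : Group.IsPerfect G := ⟨hp⟩
  refine ⟨F, inferInstance, inferInstance, ?_, by rwa [Nat.card_eq_fintype_card], by simpa using h8 ho⟩
  rcases WCor.cover_psl2 h7 (by have := h8 ho; omega) (topEquiv.symm.trans e) with h9 | ⟨-, ⟨e'⟩⟩
  · exact ⟨(MulEquiv.ofBijective (pr G) ⟨(MonoidHom.ker_eq_bot_iff _).1
      ((QuotientGroup.ker_mk' _).trans h9), pr_surj⟩).trans (topEquiv.symm.trans e)⟩
  exfalso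
  have hz : e'.symm (-1) ∈ center G := mem_center_of fun g => by
    simpa using (Commute.neg_one_left (e' g)).map e'.symm
  obtain ⟨g, -, hg⟩ := (IsSylowIn.of_sylow_top T).exists_conj_mem (mem_top (e'.symm (-1)))
    (isPGroup_zpowers_of_pow (k := 1) (by rw [← map_pow]; simp))
  rw [← (comm_of_center hz g).eq, mul_inv_cancel_right] at hg
  have := Transfer.inf_commutator_inf_center_le_of_hall T.card_coprime_index
    ⟨⟨hg, hp ▸ mem_top _⟩, hz⟩
  rw [commutator_eq_bot_iff_le_centralizer.2 fun a ha => mem_centralizer_iff.2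
    fun b hb => h.comm_of_ab T (h.ab T) hx h5 hb ha, mem_bot, MulEquiv.map_eq_one_iff] at this
  exact SL2.neg_one_ne_one (SL2.two_ne_zero_of_odd ho) this

variable {F : Type*} [Field F] [Finite F]

theorem nca_psl (ho : Odd (Nat.card F)) (h7 : 5 < Nat.card F) :
    ∃ t ∈ (pslPGL F).range, ∃ a ∈ (pslPGL F).range, ∃ b ∈ (pslPGL F).range,
      ∃ k ∈ (pslPGL F).range, Commute t a ∧ Commute t b ∧ ¬ Commute a b ∧ ¬ Commute t k := by
  have := Fact.mk (CharP.char_is_prime F (ringChar F))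
  obtain ⟨t, ht, -, -, h1, h2, -⟩ := exists_four (two_ne_zero_of_odd_card ho)
  obtain ⟨x, y, r, w, h⟩ := exists_tor (ringChar F) (two_ne_zero_of_odd_card ho) (by omega) h1 h2
  have hD := h.isDih (ringChar F) h1 h2
  obtain ⟨k, hk, h3⟩ := SetLike.not_le_iff_exists.1
    (not_psl_le_pairStab (L := ⊤) (by omega) h.ne)
  refine ⟨t, ht, r, hD.r_mem.1, w, hD.s_mem.1, k, hk, mem_Cx.1 hD.r_mem.2, mem_Cx.1 hD.s_mem.2,
    fun e => ?_, fun e => h3 ⟨trivial, (h.comm_iff (ringChar F) h1 h2).1 e.symm⟩⟩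
  have h4 := hD.conj
  rw [← e.eq, mul_inv_cancel_right, eq_inv_iff_mul_eq_one, ← pow_two] at h4
  have := Nat.le_of_dvd two_pos (orderOf_dvd_of_pow_eq_one h4)
  have := h.orderOf_cases ho (by omega) h2
  obtain ⟨m, hm⟩ := ho
  omega

theorem orderOf_le_five (ho : Odd (Nat.card F)) (h5 : Nat.card F ≤ 5) {g : PGL(2, F)}
    (hg : g ∈ (pslPGL F).range) : orderOf g ≤ 5 := by
  have hp := CharP.char_is_prime F (ringChar F)
  have h1 : 1 < Nat.card F := Finite.one_lt_card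
  rcases orderOf_cases le_rfl hg with ⟨x, hx⟩ | h | h
  · exact (orderOf_le_of_pow_eq_one hp.pos (pgl_unip_pow _ (isUnip_emb_iff.1 hx))).trans
      ((Nat.le_of_dvd (by omega) (char_dvd_card _)).trans h5)
  all_goals
    rw [index_psl_odd ho] at h
    have := Nat.le_of_dvd (by omega) h
    omega

theorem struct_of_bad (h8 : Nat.card F % 8 = 3 ∨ Nat.card F % 8 = 5) {H : Subgroup PGL(2, F)}
    (hH : H ≤ (pslPGL F).range) {x a b : PGL(2, F)} (hx : x ∈ H) (ha : a ∈ H) (hb : b ∈ H)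
    (h1 : x ≠ 1) (h2 : Commute x a) (h3 : Commute x b) (h4 : ¬ Commute a b) :
    ∃ y z : Pbar F, y ≠ z ∧ x ∈ stab2 ⊤ y z ∧ x = x⁻¹ ∧ (∃ w ∈ H, w • y = z ∧ w • z = y) ∧
      ∃ g ∈ H, g • y = y ∧ g • z = z ∧ 6 ≤ orderOf g := by
  have := Fact.mk (CharP.char_is_prime F (ringChar F))
  have M := mob_bar (F := F) (ringChar F)
  obtain ⟨y, hy⟩ := bar_fix1 x
  obtain ⟨-, z, hz, hz'⟩ := exists_fix_of_not_isUnip hy fun hu =>
    h4 (bar_unip_comm (M.comm_unip hu h1 h2.symm) (M.comm_unip hu h1 h3.symm))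
  replace hz := hz.symm
  obtain ⟨w, hw, h5, h6, h7, c, hc, h9, h10, h11⟩ : ∃ w ∈ H, Commute x w ∧ w • y = z ∧ w • z = y ∧
      ∃ c ∈ H, c • y = y ∧ c • z = z ∧ c * c ≠ 1 := by
    rcases M.comm_fix h1 hz hy hz' h2.symm with ⟨a1, a2⟩ | ⟨a1, a2⟩ <;>
      rcases M.comm_fix h1 hz hy hz' h3.symm with ⟨b1, b2⟩ | ⟨b1, b2⟩
    · exact absurd (M.comm_of_fix_two hz a1 a2 b1 b2) h4
    · refine ⟨b, hb, h3, b1, b2, a, ha, a1, a2, fun e => h4 ?_⟩
      rw [commute_iff_eq, eq_comm, ← mul_inv_eq_iff_eq_mul, M.swap_conj hz b1 b2 a1 a2,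
        inv_eq_of_mul_eq_one_right e]
    · refine ⟨a, ha, h2, a1, a2, b, hb, b1, b2, fun e => h4 ?_⟩
      rw [commute_iff_eq, ← mul_inv_eq_iff_eq_mul, M.swap_conj hz a1 a2 b1 b2,
        inv_eq_of_mul_eq_one_right e]
    · refine ⟨a, ha, h2, a1, a2, a * b, mul_mem ha hb, by rw [mul_smul, b1, a2],
        by rw [mul_smul, b2, a1], fun e => h4 ?_⟩
      rw [commute_iff_eq, eq_inv_of_mul_eq_one_left e, mul_inv_rev,
        inv_eq_of_mul_eq_one_right (M.swap_mul_self hz a1 a2),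
        inv_eq_of_mul_eq_one_right (M.swap_mul_self hz b1 b2)]
  have h12 : x = x⁻¹ := by rw [← M.swap_conj hz h6 h7 hy hz', ← h5.eq, mul_inv_cancel_right]
  refine ⟨y, z, hz, ⟨trivial, hy, hz'⟩, h12, ⟨w, hw, h6, h7⟩, x * c ^ 2,
    mul_mem hx (pow_mem hc 2), by rw [mul_smul, pow_smul_eq_of_fix h9, hy],
    by rw [mul_smul, pow_smul_eq_of_fix h10, hz'], ?_⟩
  have h13 : orderOf x = 2 := orderOf_eq_prime (by rw [pow_two]; exact mul_eq_one_iff_eq_inv.2 h12) h1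
  have h14 : Odd (orderOf (c ^ 2)) := by
    have h15 : ¬ 4 ∣ orderOf c := by
      rintro ⟨m, hm⟩
      rcases orderOf_dvd_of_fix_two le_rfl (hH hc) hz h9 h10 with ⟨⟨l, e⟩, -⟩ | ⟨⟨l, e⟩, -⟩ <;>
        rw [index_psl_odd (Nat.odd_iff.2 (by omega)), hm,
          show 4 * m * 2 * l = 8 * (m * l) by ring] at e <;> omega
    rw [orderOf_pow' _ two_ne_zero, Nat.odd_iff]
    rcases (Nat.dvd_prime Nat.prime_two).1 (Nat.gcd_dvd_right (orderOf c) 2) with e | e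
    · have := Nat.odd_iff.1 (Nat.coprime_two_right.1 e)
      rw [e]; omega
    · have := Nat.gcd_eq_right_iff_dvd.1 e
      rw [e]; omega
  rw [Commute.orderOf_mul_eq_mul_orderOf_of_coprime (Commute.pow_right
    (M.comm_of_fix_two hz hy hz' h9 h10) 2) (by rw [h13]; exact Nat.coprime_two_left.2 h14), h13]
  have := mt orderOf_eq_one_iff.1 (pow_two c ▸ h11)
  obtain ⟨m, hm⟩ := h14
  omega

theorem ca_of_lt (h8 : Nat.card F % 8 = 3 ∨ Nat.card F % 8 = 5)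
    (hK : ∀ K : Subfield F, K ≠ ⊤ → Nat.card K ≤ 5) {H : Subgroup PGL(2, F)}
    (hH : H < (pslPGL F).range) {x a b k : PGL(2, F)} (hx : x ∈ H) (ha : a ∈ H) (hb : b ∈ H)
    (hk : k ∈ H) (h2 : Commute x a) (h3 : Commute x b) (h4 : ¬ Commute a b) : Commute x k := by
  have := Fact.mk (CharP.char_is_prime F (ringChar F))
  have M := mob_bar (F := F) (ringChar F)
  by_cases h1 : x = 1
  · exact h1 ▸ Commute.one_left k
  obtain ⟨y, z, hz, h5, h6, ⟨w, hw, w1, w2⟩, g, hg, g1, g2, g3⟩ :=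
    struct_of_bad h8 hH.le hx ha hb h1 h2 h3 h4
  have hg1 : g ≠ 1 := fun e => by rw [e, orderOf_one] at g3; omega
  have k1 : ∀ u v, u ≠ v → H ≤ pairStab ⊤ u v → Commute x k := fun u v huv e => by
    rcases (e hg).2 with e' | e'
    · rw [pairStab_eq_of_fix (L := ⊤) hg1 hz huv ⟨trivial, g1, g2⟩ ⟨trivial, e'⟩] at e
      rcases (e hk).2 with ⟨k1, k2⟩ | ⟨k1, k2⟩
      · exact M.comm_of_fix_two hz h5.2.1 h5.2.2 k1 k2
      · rw [commute_iff_eq, eq_comm, ← mul_inv_eq_iff_eq_mul, swap_conj_eq_inv hz h5 k1 k2, ← h6]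
    · have := orderOf_le_of_pow_eq_one two_pos (pow_two g ▸ M.swap_mul_self huv e'.1 e'.2)
      omega
  have k2 : ∀ {a b c : ℕ}, 0 < a ∧ a < 6 → 0 < b ∧ b < 6 → 0 < c ∧ c < 6 →
      ¬ (orderOf g ∣ a ∨ orderOf g ∣ b ∨ orderOf g ∣ c) := by
    rintro a b c h1 h2 h3 (e | e | e) <;> have := Nat.le_of_dvd (by omega) e <;> omega
  rcases dickson_fin (ringChar F) H with ⟨u, e⟩ | ⟨u, v, huv, e⟩ | ⟨u, v, huv, e⟩ | ⟨-, -, e⟩ |
    ⟨-, -, e⟩ | ⟨-, -, e⟩ | ⟨K, l, h7, e⟩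
  · rcases bar_fix_cases h1 hz h5.2.1 h5.2.2 (e hx).2 with rfl | rfl
    exacts [absurd (w1.symm.trans (e hw).2).symm hz, absurd (w2.symm.trans (e hw).2) hz]
  · exact k1 _ _ (emb_injective.ne huv) e
  · exact k1 _ _ huv.2.1 e
  · exact absurd (pow_cases_of_equiv e a4_pow hg) (k2 (by decide) (by decide) (by decide))
  · exact absurd (pow_cases_of_equiv e s4_pow hg) (k2 (by decide) (by decide) (by decide))
  · exact absurd (pow_cases_of_equiv e a5_pow hg) (k2 (by decide) (by decide) (by decide))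
  exfalso
  have h9 := hK K (by rintro rfl; exact hH.not_ge (psl_le_of_top e))
  rcases e with rfl | ⟨ho, rfl⟩
  · have h10 := card_dvd_of_le hH.le
    have h11 := card_psl_odd (F := F) (Nat.odd_iff.2 (by omega))
    rw [card_pglSub] at h10
    obtain ⟨m, -, hm⟩ := exists_card_eq_pow K.subtype
    have h12 : 8 ∣ Nat.card (pslPGL F).range := by
      refine Dvd.dvd.trans ?_ h10
      generalize Nat.card K = n at h7 h9 hm
      interval_cases n
      · decide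
      · rcases m with _ | _ | m <;> simp [pow_succ] at hm <;> omega
      · decide
    obtain ⟨n, hn⟩ := h12
    obtain ⟨j, hj⟩ : ∃ j, Nat.card F = 8 * j + 3 ∨ Nat.card F = 8 * j + 5 := ⟨Nat.card F / 8, by omega⟩
    have h13 : 1 ≤ Nat.card F ^ 2 := Nat.one_le_pow _ _ Nat.card_pos
    rw [hn] at h11
    zify [h13] at h11 hj
    rcases hj with hj | hj <;> rw [hj] at h11
    · have : (8 * j + 3 : ℤ) * ((8 * j + 3) ^ 2 - 1) = 16 * (32 * j ^ 3 + 36 * j ^ 2 + 13 * j) + 24 := by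
        ring
      omega
    · have : (8 * j + 5 : ℤ) * ((8 * j + 5) ^ 2 - 1) = 16 * (32 * j ^ 3 + 60 * j ^ 2 + 37 * j) + 120 := by
        ring
      omega
  · obtain ⟨c, h10, e⟩ := mem_pslSub.1 hg
    have := orderOf_le_five ho h9 h10
    rw [← orderOf_injective _ (pglMap_injective K.subtype), e,
      SemiconjBy.orderOf_eq l (y := g) (by simp [SemiconjBy, mul_assoc])] at this
    omega

theorem mc_iff_psl {G : Type*} [Group G] (e : G ≃* PSL(2, F)) (h5 : 5 ≤ Nat.card F)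
    (h8 : Nat.card F % 8 = 3 ∨ Nat.card F % 8 = 5) :
    MC G ↔ 5 < Nat.card F ∧ ∀ K : Subfield F, K ≠ ⊤ → Nat.card K ≤ 5 := by
  have ho : Odd (Nat.card F) := Nat.odd_iff.2 (by omega)
  let φ := (pslPGL F).comp e.toMonoidHom
  have hi : Function.Injective φ := pslPGL_injective.comp e.injective
  have hs : ∀ g ∈ (pslPGL F).range, ∃ a, φ a = g := by
    rintro _ ⟨g, rfl⟩
    exact ⟨e.symm g, by simp [φ]⟩
  have hm : ∀ a, φ a ∈ (pslPGL F).range := fun a => ⟨e a, rfl⟩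
  have hc : ∀ {a b}, Commute (φ a) (φ b) ↔ Commute a b := commute_map_iff hi
  refine ⟨fun h => ⟨h5.lt_of_ne fun e => ?_, fun K hK => not_lt.1 fun h6 => ?_⟩, fun ⟨h6, hK⟩ =>
    ⟨fun _ => psl_not_isSolvable (F := F) (by omega) (isSolvable_of_equiv ⟨e.symm⟩ ‹_›), ?_,
      fun K h7 x a b k hx ha hb hk h2 h3 h4 => hc.1 (ca_of_lt h8 hK (H := K.map φ) ?_
        (mem_map_of_mem _ hx) (mem_map_of_mem _ ha) (mem_map_of_mem _ hb) (mem_map_of_mem _ hk)
        (hc.2 h2) (hc.2 h3) (mt hc.1 h4))⟩⟩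
  · obtain ⟨x, h1, a, b, h2, h3, h4⟩ := h.bad
    obtain ⟨-, -, -, -, -, -, g, hg, -, -, h6⟩ := struct_of_bad h8 le_rfl (hm x) (hm a) (hm b)
      (fun e => h1 (((injective_iff_map_eq_one φ).1 hi x e) ▸ one_mem _)) (hc.2 h2) (hc.2 h3)
      (mt hc.1 h4)
    have := orderOf_le_five ho e.ge hg
    omega
  · obtain ⟨m, h1, hm⟩ := exists_card_eq_pow K.subtype
    obtain ⟨t, ht, a, ha, b, hb, k, hk, h2, h3, h4, h7⟩ := nca_psl (F := K)
      ((Nat.odd_pow_iff (by omega)).1 (hm ▸ ho)) h6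
    have key : ∀ g ∈ (pslPGL K).range, ∃ a ∈ (pglSub K 1).comap φ, φ a = pglMap K.subtype g :=
      fun g hg => by
        obtain ⟨a, ha⟩ := hs _ (pglMap_mem_psl K.subtype hg)
        exact ⟨a, mem_pglSub.2 ⟨g, by simp [ha]⟩, ha⟩
    obtain ⟨t, ht, e1⟩ := key t ht
    obtain ⟨a, ha, e2⟩ := key a ha
    obtain ⟨b, hb, e3⟩ := key b hb
    obtain ⟨k, hk, e4⟩ := key k hk
    have hc' : ∀ {a b}, Commute (pglMap K.subtype a) (pglMap K.subtype b) ↔ Commute a b :=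
      commute_map_iff (pglMap_injective K.subtype)
    rw [← hc', ← e1] at h2 h3 h7
    rw [← hc', ← e2, ← e3] at h4
    refine h7 (e4 ▸ hc.2 (h.ca _ (fun e => not_psl_le_pglSub hK 1 fun g hg => ?_) ht ha hb hk
      (hc.1 (e2 ▸ h2)) (hc.1 (e3 ▸ h3)) (mt hc.2 h4)))
    obtain ⟨a, rfl⟩ := hs g hg
    exact mem_comap.1 (e ▸ mem_top a)
  · obtain ⟨t, ht, a, ha, b, hb, k, hk, h2, h3, h4, h7⟩ := nca_psl ho h6
    obtain ⟨t, rfl⟩ := hs t ht
    obtain ⟨a, rfl⟩ := hs a ha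
    obtain ⟨b, rfl⟩ := hs b hb
    obtain ⟨k, rfl⟩ := hs k hk
    exact ⟨t, fun e => h7 (hc.2 (comm_of_center e k)), a, b, hc.1 h2, hc.1 h3, mt hc.2 h4⟩
  · refine lt_of_le_of_ne (by rintro _ ⟨a, -, rfl⟩; exact hm a) fun e => h7 (eq_top_iff.2 fun a _ => ?_)
    exact (mem_map_iff_mem hi).1 (e ▸ hm a)

theorem cond_iff (h8 : Nat.card F % 8 = 3 ∨ Nat.card F % 8 = 5) :
    (5 < Nat.card F ∧ ∀ K : Subfield F, K ≠ ⊤ → Nat.card K ≤ 5) ↔
      ((Nat.card F).Prime ∧ 5 < Nat.card F ∧ ¬ 16 ∣ Nat.card F ^ 2 - 1) ∨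
        ∃ p : ℕ, p.Prime ∧ p ≠ 2 ∧ (Nat.card F = 3 ^ p ∨ Nat.card F = 5 ^ p) := by
  constructor
  · rintro ⟨h5, hK⟩
    have := Fintype.ofFinite F
    obtain ⟨p, _, ⟨n, h0⟩, hp, hn⟩ := FiniteField.card' F
    rw [← Nat.card_eq_fintype_card, PNat.mk_coe] at hn
    have := Fact.mk hp
    have key : ∀ m, m ∣ n → m ≠ n → p ^ m ≤ 5 := fun m hm h1 => by
      obtain ⟨K, h2⟩ := exists_subfield_card_pow p (ne_zero_of_dvd_ne_zero h0.ne' hm) hn hm
      refine h2 ▸ hK K ?_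
      rintro rfl
      rw [Nat.card_congr Subfield.topEquiv.toEquiv, hn] at h2
      exact h1 (Nat.pow_right_injective hp.two_le h2).symm
    by_cases h1 : n = 1
    · refine Or.inl ⟨by rwa [hn, h1, pow_one], h5, fun ⟨c, hc⟩ => ?_⟩
      obtain ⟨j, hj⟩ : ∃ j, Nat.card F = 8 * j + 3 ∨ Nat.card F = 8 * j + 5 :=
        ⟨Nat.card F / 8, by omega⟩
      rcases hj with hj | hj <;> rw [hj] at hc
      · rw [show (8 * j + 3) ^ 2 = 16 * (4 * j ^ 2 + 3 * j) + 9 by ring] at hc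
        omega
      · rw [show (8 * j + 5) ^ 2 = 16 * (4 * j ^ 2 + 5 * j) + 25 by ring] at hc
        omega
    have h2 := key 1 (one_dvd n) (Ne.symm h1)
    rw [pow_one] at h2
    have h3 : p = 3 ∨ p = 5 := by
      have : p ≠ 2 := by
        rintro rfl
        have := (Nat.even_pow' h0.ne').2 even_two
        rw [← hn, Nat.even_iff] at this
        omega
      have : p ≠ 4 := by rintro rfl; exact absurd hp (by decide)
      have := hp.two_le
      omega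
    refine Or.inr ⟨n, Nat.prime_def.2 ⟨by omega, fun m hm => or_iff_not_imp_right.2 fun h4 => ?_⟩,
      ?_, h3.imp (fun e => by rwa [← e]) fun e => by rwa [← e]⟩
    · by_contra h6
      have := Nat.pos_of_dvd_of_pos hm h0
      have := (Nat.pow_le_pow_right hp.pos (show 2 ≤ m by omega)).trans (key m hm h4)
      rcases h3 with rfl | rfl <;> omega
    · rintro rfl
      rcases h3 with rfl | rfl <;> omega
  · rintro (⟨h1, h2, -⟩ | ⟨p, hp, h2, h⟩)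
    · exact ⟨h2, fun K hK => absurd (subfield_eq_top_of_prime h1 K) hK⟩
    obtain ⟨l, hl, h3, h5, h⟩ : ∃ l : ℕ, l.Prime ∧ 3 ≤ l ∧ l ≤ 5 ∧ Nat.card F = l ^ p := by
      rcases h with h | h
      exacts [⟨3, Nat.prime_three, by omega, by omega, h⟩, ⟨5, Nat.prime_five, by omega, by omega, h⟩]
    refine ⟨?_, fun K hK => ?_⟩
    · have := (Nat.pow_le_pow_left h3 2).trans (Nat.pow_le_pow_right hl.pos hp.two_le)
      omega
    obtain ⟨m, h1, hm⟩ := exists_card_eq_pow K.subtype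
    obtain ⟨j, -, hj⟩ := (Nat.dvd_prime_pow hl).1 (h ▸ hm ▸ dvd_pow_self (Nat.card K) (by omega))
    rw [h, hj, ← pow_mul] at hm
    rcases hp.eq_one_or_self_of_dvd j ⟨m, Nat.pow_right_injective hl.two_le hm⟩ with rfl | rfl
    · rwa [hj, pow_one]
    · exact absurd (subfield_eq_top_of_card (h.trans hj.symm).le) hK

omit [Finite F] in
theorem mod_of_cond {q : ℕ} (h : (q.Prime ∧ 5 < q ∧ ¬ 16 ∣ q ^ 2 - 1) ∨
    ∃ p : ℕ, p.Prime ∧ p ≠ 2 ∧ (q = 3 ^ p ∨ q = 5 ^ p)) : q % 8 = 3 ∨ q % 8 = 5 := by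
  rcases h with ⟨h1, h2, h3⟩ | ⟨p, hp, h2, h⟩
  · have := h1.eq_two_or_odd
    obtain ⟨j, hj⟩ : ∃ j, q % 8 = 3 ∨ q % 8 = 5 ∨ q = 8 * j + 1 ∨ q = 8 * j + 7 := ⟨q / 8, by omega⟩
    rcases hj with hj | hj | rfl | rfl
    exacts [Or.inl hj, Or.inr hj, absurd ⟨4 * j ^ 2 + j, Nat.sub_eq_of_eq_add (by ring)⟩ h3,
      absurd ⟨4 * j ^ 2 + 7 * j + 3, Nat.sub_eq_of_eq_add (by ring)⟩ h3]
  · obtain ⟨m, rfl⟩ := hp.odd_of_ne_two h2
    rcases h with rfl | rfl <;> simp [pow_succ, pow_mul, Nat.mul_mod, Nat.pow_mod]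

theorem mc_iff {G : Type*} [Group G] : MC G ↔ (¬ Group.IsSolvable G ∧
    ¬ (∀ x : G, x ∉ center G → IsMulCommutative (centralizer ({x} : Set G))) ∧
    ∀ H : Subgroup G, H ≠ ⊤ → ∀ x : H, x ∉ center H →
      IsMulCommutative (centralizer ({x} : Set H))) := by
  refine ⟨fun h => ⟨h.ns, fun e => ?_, fun H hH x hx => ⟨⟨fun a b => by_contra fun e => hx
    (mem_center_of fun k => Subtype.ext (h.ca H hH x.2 a.1.2 b.1.2 k.2
      ((mem_Cx.1 a.2).map H.subtype) ((mem_Cx.1 b.2).map H.subtype)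
      fun e' => e (Subtype.ext (Subtype.ext e'))))⟩⟩⟩, fun ⟨h1, h2, h3⟩ => ⟨h1, ?_,
      fun K hK x a b k hx ha hb hk h4 h5 h6 => by_contra fun e => h6 ?_⟩⟩
  · obtain ⟨x, h1, a, b, h2, h3, h4⟩ := h.bad
    have := e x h1
    exact h4 (congrArg Subtype.val (mul_comm' (⟨a, mem_Cx.2 h2⟩ : Cx x) ⟨b, mem_Cx.2 h3⟩))
  · by_contra e
    refine h2 fun x hx => ⟨⟨fun a b => by_contra fun e' => e ⟨x, hx, a, b, mem_Cx.1 a.2,
      mem_Cx.1 b.2, fun e => e' (Subtype.ext e)⟩⟩⟩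
  · have := h3 K hK ⟨x, hx⟩ fun e' => e (congrArg Subtype.val (comm_of_center e' ⟨k, hk⟩))
    exact congrArg (fun y => y.1.1) (mul_comm' (⟨⟨a, ha⟩, mem_Cx.2 (Subtype.ext h4)⟩ :
      Cx (⟨x, hx⟩ : K)) ⟨⟨b, hb⟩, mem_Cx.2 (Subtype.ext h5)⟩)

end CfsgLib.MinCA
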